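import Cfsg.Agent.H261.TI.IdxP
import Cfsg.Agent.H73.TI.Zst

/-!
# Invariant classes of a normal subgroup of index `p` and of its Sylow normalizer (helper261)
-/

set_option autoImplicit false

namespace Cfsg.Agent.H261.TI

open Subgroup
open Cfsg.Agent.H666.TI

universe u

variable {G : Type u} [Group G] [Finite G] {L : Subgroup G} [L.Normal] {p : ℕ} [Fact p.Prime]

omit [L.Normal] in
/-- the product of a Sylow `p`-subgroup and a normal subgroup of index `p` -/
theorem sup_sylow (hi : L.index = p) (P : Sylow p G) : L ⊔ (P : Subgroup G) = ⊤ := by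
  have hp : p.Prime := Fact.out
  have h1 : (L ⊔ (P : Subgroup G)).index ∣ L.index := index_dvd_of_le le_sup_left
  rw [hi] at h1
  have h2 : (L ⊔ (P : Subgroup G)).index ∣ (P : Subgroup G).index := index_dvd_of_le le_sup_right
  rcases (Nat.dvd_prime hp).1 h1 with h3 | h3
  · exact index_eq_one.1 h3
  · rw [h3] at h2
    exact absurd h2 P.not_dvd_index

theorem exists_mul_sylow (hi : L.index = p) (P : Sylow p G) (g : G) : ∃ l ∈ L, ∃ x ∈ P, l * x = g := by
  have h1 : g ∈ ((L ⊔ (P : Subgroup G) : Subgroup G) : Set G) := by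
    rw [sup_sylow hi P]
    trivial
  rw [normal_mul] at h1
  obtain ⟨l, hl, x, hx, h⟩ := h1
  exact ⟨l, hl, x, hx, h⟩

/-- a `p`-element outside `L` commuting with `y` -/
theorem exists_pElt (hi : L.index = p) {g y : G} (hg : g ∉ L) (hgy : g * y = y * g) :
    ∃ h : G, h ∉ L ∧ PElt p h ∧ h * y = y * h := by
  have hp : p.Prime := Fact.out
  obtain ⟨k, m, hm, ho⟩ := Nat.exists_eq_pow_mul_and_not_dvd (orderOf_pos g).ne' p hp.ne_one
  refine ⟨g ^ m, fun h => hg ?_, ⟨k, ?_⟩, ?_⟩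
  · have h1 : g ^ p ∈ L := by
      rw [← hi]
      exact Subgroup.pow_index_mem L g
    have h2 : IsCoprime (p : ℤ) (m : ℤ) :=
      Nat.isCoprime_iff_coprime.2 ((Nat.Prime.coprime_iff_not_dvd hp).2 hm)
    obtain ⟨a, b, hab⟩ := h2
    have h3 : g = (g ^ p) ^ a * (g ^ m) ^ b := by
      rw [← zpow_natCast, ← zpow_natCast, ← zpow_mul, ← zpow_mul, ← zpow_add, mul_comm (p : ℤ), mul_comm (m : ℤ), hab,
        zpow_one]
    rw [h3]
    exact L.mul_mem (L.zpow_mem h1 a) (L.zpow_mem h b)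
  · rw [← pow_mul, mul_comm m, ← ho, pow_orderOf_eq_one]
  · exact ((show Commute g y from hgy).pow_left m).eq

/-- **Representatives in the Sylow normalizer.** -/
theorem exists_rep (hTI : IsTI p G) (hi : L.index = p) (P : Sylow p G) {y : G} {g : G} (hg : g ∉ L)
    (hgy : g * y = y * g) : ∃ l ∈ L, l⁻¹ * y * l ∈ normalizer ((P : Subgroup G) : Set G) ∧
      ∃ h ∈ P, h ∉ L ∧ h * (l⁻¹ * y * l) = (l⁻¹ * y * l) * h := by
  obtain ⟨h, hhL, hhp, hhy⟩ := exists_pElt hi hg hgy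
  obtain ⟨Q, hQ⟩ := exists_sylow_mem hhp
  obtain ⟨c, hc⟩ := MulAction.exists_smul_eq G P Q
  obtain ⟨l, hl, x, hx, rfl⟩ := exists_mul_sylow hi P c
  have h1 : x • P = P := Sylow.smul_eq_iff_mem_normalizer.2 (le_normalizer hx)
  rw [mul_smul, h1] at hc
  rw [← hc] at hQ
  have h2 : l⁻¹ * h * l ∈ P := by
    rw [← Zst_mem (P := P) (g := l)]
    have h3 : l * (l⁻¹ * h * l) * l⁻¹ = h := by group
    rw [h3]
    exact hQ
  have h4 : (l⁻¹ * h * l) * (l⁻¹ * y * l) = (l⁻¹ * y * l) * (l⁻¹ * h * l) := by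
    calc (l⁻¹ * h * l) * (l⁻¹ * y * l) = l⁻¹ * (h * y) * l := by group
      _ = l⁻¹ * (y * h) * l := by rw [hhy]
      _ = _ := by group
  have h5 : l⁻¹ * h * l ∉ L := fun h5 => hhL (by
    have h6 : h = l * (l⁻¹ * h * l) * l⁻¹ := by group
    rw [h6]
    exact L.mul_mem (L.mul_mem hl h5) (L.inv_mem hl))
  refine ⟨l, hl, ?_, _, h2, h5, h4⟩
  refine Cfsg.Agent.H73.TI.Zst.mem_normalizer hTI h2 (fun h6 => h5 (h6 ▸ L.one_mem)) ?_
  rw [← h4, mul_inv_cancel_right]
  exact h2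
where Zst_mem {P : Sylow p G} {g x : G} : g * x * g⁻¹ ∈ g • P ↔ x ∈ P := Cfsg.Agent.H73.TI.Zst.mem_smul_iff

variable (L) in
/-- the homomorphism from the Sylow normalizer of `L` -/
def incl (N : Subgroup G) : L.subgroupOf N →* L where
  toFun x := ⟨x.1.1, x.2⟩
  map_one' := rfl
  map_mul' _ _ := rfl

theorem index_subgroupOf_normalizer (hi : L.index = p) (P : Sylow p G) :
    (L.subgroupOf (normalizer ((P : Subgroup G) : Set G))).index = p := by
  have hp : p.Prime := Fact.out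
  have h1 : L.relIndex (normalizer ((P : Subgroup G) : Set G)) ∣ L.index := relIndex_dvd_index_of_normal _ _
  rw [hi] at h1
  rcases (Nat.dvd_prime hp).1 h1 with h3 | h3
  · exfalso
    have h4 : (P : Subgroup G) ≤ L := (le_normalizer).trans (relIndex_eq_one.1 h3)
    have h5 := sup_sylow hi P
    rw [sup_eq_left.2 h4] at h5
    rw [h5, index_top] at hi
    exact hp.ne_one hi.symm
  · exact h3

theorem card_inv_le (hTI : IsTI p G) (hi : L.index = p) (P : Sylow p G) :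
    Nat.card {C : ConjClasses L // InvC L C} ≤
      Nat.card {C : ConjClasses (L.subgroupOf (normalizer ((P : Subgroup G) : Set G))) //
        InvC (L.subgroupOf (normalizer ((P : Subgroup G) : Set G))) C} := by
  set N := normalizer ((P : Subgroup G) : Set G) with hN
  have hfin : Finite (ConjClasses (L.subgroupOf N)) := inferInstance
  have hstep : ∀ C : ConjClasses (L.subgroupOf N), InvC (L.subgroupOf N) C →
      InvC L (ConjClasses.map (incl L N) C) := by
    rintro _ ⟨y, rfl, g, hg, hgy⟩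
    exact ⟨incl L N y, rfl, g.1, hg, congrArg Subtype.val hgy⟩
  refine Nat.card_le_card_of_surjective (fun C => ⟨ConjClasses.map (incl L N) C.1, hstep C.1 C.2⟩) ?_
  rintro ⟨_, y, rfl, g, hg, hgy⟩
  obtain ⟨l, hl, hyN, h, hhP, hhL, hhy⟩ := exists_rep hTI hi P hg hgy
  have hyL : l⁻¹ * (y : G) * l ∈ L := L.mul_mem (L.mul_mem (L.inv_mem hl) y.2) hl
  refine ⟨⟨ConjClasses.mk ⟨⟨l⁻¹ * y * l, hyN⟩, hyL⟩, _, rfl, ⟨h, le_normalizer hhP⟩, hhL,
    Subtype.ext hhy⟩, Subtype.ext ?_⟩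
  show ConjClasses.mk (⟨l⁻¹ * y * l, hyL⟩ : L) = ConjClasses.mk y
  exact ConjClasses.mk_eq_mk_iff_isConj.2 (isConj_iff.2 ⟨⟨l, hl⟩, Subtype.ext (by
    show l * (l⁻¹ * y * l) * l⁻¹ = y
    group)⟩)

end Cfsg.Agent.H261.TI
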