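import Mathlib
import Cfsg.Prelude.Def_CaseTheorems

/-!
# The class number of the semidihedral group of order 16 (helper261)
-/

set_option autoImplicit false

namespace Cfsg.Agent.H261.TI

universe u

/-- a commutative group has as many classes as elements -/
theorem classes_of_comm {G : Type*} [Group G] (h : ∀ a b : G, a * b = b * a) :
    Nat.card (ConjClasses G) = Nat.card G := by
  refine (Nat.card_congr (Equiv.ofBijective (ConjClasses.mk : G → ConjClasses G) ⟨fun a b hab => ?_,
    ConjClasses.mk_surjective⟩)).symm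
  obtain ⟨c, hc⟩ := isConj_iff.1 (ConjClasses.mk_eq_mk_iff_isConj.1 hab)
  rw [← hc, h c a, mul_inv_cancel_right]

/-- class numbers of isomorphic groups -/
theorem classes_congr {G H : Type*} [Group G] [Group H] (e : G ≃* H) :
    Nat.card (ConjClasses G) = Nat.card (ConjClasses H) := by
  refine Nat.card_congr
    { toFun := ConjClasses.map e.toMonoidHom
      invFun := ConjClasses.map e.symm.toMonoidHom
      left_inv := fun C => ?_
      right_inv := fun C => ?_ }
  · obtain ⟨x, rfl⟩ := ConjClasses.mk_surjective C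
    show ConjClasses.mk (e.symm (e x)) = _
    rw [e.symm_apply_apply]
  · obtain ⟨x, rfl⟩ := ConjClasses.mk_surjective C
    show ConjClasses.mk (e (e.symm x)) = _
    rw [e.apply_symm_apply]

/-- multiplication of exponents -/
def qmul (p q : Fin 8 × Fin 2) : Fin 8 × Fin 2 := (p.1 + (if p.2 = 0 then 1 else 3) * q.1, p.2 + q.2)

theorem comm_count : (Finset.univ.filter fun p : (Fin 8 × Fin 2) × (Fin 8 × Fin 2) =>
    qmul p.1 p.2 = qmul p.2 p.1).card = 112 := by decide +kernel

theorem classes_qd {Q : Type u} [Group Q] (h : Cfsg.IsQuasiDihedral Q) (h16 : Nat.card Q = 16) :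
    Nat.card (ConjClasses Q) = 7 := by
  obtain ⟨n, hn, hc, x, y, hx, hy, hxy⟩ := h
  have hfin : Finite Q := Nat.finite_of_card_ne_zero (by rw [h16]; norm_num)
  have hn3 : n = 3 := by
    rw [h16] at hc
    have h1 : (2 : ℕ) ^ 4 = 2 ^ (n + 1) := by rw [← hc]; norm_num
    have := Nat.pow_right_injective le_rfl h1
    omega
  subst hn3
  norm_num at hx hxy
  have hx8 : x ^ 8 = 1 := by rw [← hx]; exact pow_orderOf_eq_one x
  have hy2 : y ^ 2 = 1 := by rw [← hy]; exact pow_orderOf_eq_one y
  let f : Fin 8 × Fin 2 → Q := fun p => x ^ (p.1 : ℕ) * y ^ (p.2 : ℕ)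
  have hxm : ∀ a : ℕ, x ^ (a % 8) = x ^ a := fun a => by
    conv_rhs => rw [← Nat.div_add_mod a 8, pow_add, pow_mul, hx8, one_pow, one_mul]
  have hym : ∀ a : ℕ, y ^ (a % 2) = y ^ a := fun a => by
    conv_rhs => rw [← Nat.div_add_mod a 2, pow_add, pow_mul, hy2, one_pow, one_mul]
  have hyx : ∀ a : ℕ, y * x ^ a = x ^ (3 * a) * y := by
    intro a
    rw [pow_mul, ← hxy, conj_pow, inv_mul_cancel_right]
  have hf : ∀ p q, f (qmul p q) = f p * f q := by
    rintro ⟨a, i⟩ ⟨b, j⟩
    have hi : i = 0 ∨ i = 1 := by fin_cases i <;> simp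
    rcases hi with rfl | rfl
    · simp only [f, qmul, if_true, one_mul, Fin.val_add, Fin.val_zero, zero_add, pow_zero, mul_one]
      rw [hxm, pow_add, mul_assoc]
    · have h1 : ((1 : Fin 2) = 0) = False := by simp
      simp only [f, qmul, h1, if_false, Fin.val_add, Fin.val_mul, Fin.val_one, pow_one]
      have h3 : ((3 : Fin 8) : ℕ) = 3 := rfl
      rw [hxm, hym, h3, pow_add, hxm, pow_add, pow_one]
      calc x ^ (a : ℕ) * x ^ (3 * (b : ℕ)) * (y * y ^ (j : ℕ)) = x ^ (a : ℕ) * (x ^ (3 * (b : ℕ)) * y) * y ^ (j : ℕ) := by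
            group
        _ = x ^ (a : ℕ) * (y * x ^ (b : ℕ)) * y ^ (j : ℕ) := by rw [hyx]
        _ = _ := by group
  have hne : ∀ a b : ℕ, x ^ a * y ≠ x ^ b := by
    intro a b h
    have h1 : y ∈ Subgroup.zpowers x := by
      have h2 : y = (x ^ a)⁻¹ * x ^ b := by rw [← h]; group
      rw [h2]
      exact mul_mem (inv_mem (Subgroup.npow_mem_zpowers x a)) (Subgroup.npow_mem_zpowers x b)
    obtain ⟨k, hk⟩ := h1
    have h2 : y * x * y⁻¹ = x := by
      rw [← hk]
      group
    rw [h2] at hxy
    have h3 : x ^ 2 = 1 := by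
      have h4 : x * x ^ 2 = x * 1 := by
        rw [mul_one, ← pow_succ']
        exact hxy.symm
      exact mul_left_cancel h4
    have h4 := orderOf_dvd_of_pow_eq_one h3
    rw [hx] at h4
    revert h4
    decide
  have hinj : Function.Injective f := by
    rintro ⟨a, i⟩ ⟨b, j⟩ h
    have hi : i = 0 ∨ i = 1 := by fin_cases i <;> simp
    have hj : j = 0 ∨ j = 1 := by fin_cases j <;> simp
    have hpow : x ^ (a : ℕ) = x ^ (b : ℕ) → a = b := fun h => by
      apply Fin.ext
      exact pow_injOn_Iio_orderOf (by rw [hx]; exact a.2) (by rw [hx]; exact b.2) h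
    rcases hi with rfl | rfl <;> rcases hj with rfl | rfl
    · simp only [f, Fin.val_zero, pow_zero, mul_one] at h
      rw [hpow h]
    · simp only [f, Fin.val_zero, pow_zero, mul_one, Fin.val_one, pow_one] at h
      exact absurd h.symm (hne _ _)
    · simp only [f, Fin.val_zero, pow_zero, mul_one, Fin.val_one, pow_one] at h
      exact absurd h (hne _ _)
    · simp only [f, Fin.val_one, pow_one] at h
      rw [hpow (mul_right_cancel h)]
  have hbij : Function.Bijective f := (Nat.bijective_iff_injective_and_card f).2 ⟨hinj, by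
    rw [h16, Nat.card_prod, Nat.card_eq_fintype_card, Nat.card_eq_fintype_card, Fintype.card_fin, Fintype.card_fin]⟩
  let g := Equiv.ofBijective f hbij
  have h1 : Nat.card {p : Q × Q // Commute p.1 p.2} = 112 := by
    rw [← comm_count, ← Fintype.card_subtype, ← Nat.card_eq_fintype_card]
    refine (Nat.card_congr ((g.prodCongr g).subtypeEquiv fun p => ?_)).symm
    show _ ↔ f p.1 * f p.2 = f p.2 * f p.1
    rw [← hf, ← hf]
    exact ⟨fun h => by rw [h], fun h => hinj h⟩
  have h2 := card_comm_eq_card_conjClasses_mul_card Q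
  rw [h1, h16] at h2
  omega

end Cfsg.Agent.H261.TI
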