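import Cfsg.Agent.S0172
import Cfsg.Agent.H261.TI.QD

/-!
# The class number of a Frobenius group of order `100` (helper261)
-/

set_option autoImplicit false

namespace Cfsg.Agent.H261.TI

open Subgroup

theorem classes_frob100 {X : Type*} [Group X] [Finite X] (hX : Nat.card X = 100) (K : Subgroup X) [K.Normal]
    (hK : Nat.card K = 25) (hKc : ∀ a ∈ K, ∀ b ∈ K, a * b = b * a)
    (hcent : ∀ u ∈ K, u ≠ 1 → ∀ x : X, x * u = u * x → x ∈ K) : Nat.card (ConjClasses X) = 10 := by
  have h2 : Fact (Nat.Prime 2) := ⟨Nat.prime_two⟩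
  obtain ⟨H⟩ : Nonempty (Sylow 2 X) := inferInstance
  have hH : Nat.card H = 4 := by
    rw [H.card_eq_multiplicity, hX]
    have : (100 : ℕ).factorization 2 = 2 := by
      rw [show (100 : ℕ) = 2 ^ 2 * 25 by norm_num, Nat.factorization_mul (by norm_num) (by norm_num),
        Nat.factorization_pow, Finsupp.add_apply, Finsupp.smul_apply, Nat.prime_two.factorization_self,
        Nat.factorization_eq_zero_of_not_dvd (by norm_num : ¬ 2 ∣ 25)]
      norm_num
    rw [this]
    norm_num
  have hinf : K ⊓ (H : Subgroup X) = ⊥ := by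
    rw [← card_eq_one]
    have h3 : Nat.card (K ⊓ (H : Subgroup X) : Subgroup X) ∣ 25 := hK ▸ card_dvd_of_le inf_le_left
    have h4 : Nat.card (K ⊓ (H : Subgroup X) : Subgroup X) ∣ 4 := hH ▸ card_dvd_of_le inf_le_right
    exact Nat.eq_one_of_dvd_coprimes (by norm_num : Nat.Coprime 25 4) h3 h4
  have hsup : K ⊔ (H : Subgroup X) = ⊤ := by
    apply eq_top_of_card_eq
    rw [hX]
    have h3 : 25 ∣ Nat.card (K ⊔ (H : Subgroup X) : Subgroup X) := hK ▸ card_dvd_of_le le_sup_left
    have h4 : 4 ∣ Nat.card (K ⊔ (H : Subgroup X) : Subgroup X) := hH ▸ card_dvd_of_le le_sup_right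
    have h5 : Nat.card (K ⊔ (H : Subgroup X) : Subgroup X) ∣ 100 := hX ▸ card_subgroup_dvd_card _
    exact Nat.dvd_antisymm h5 (Nat.Coprime.mul_dvd_of_dvd_of_dvd (by norm_num : Nat.Coprime 25 4) h3 h4)
  have h := S0172.result K (H : Subgroup X) hinf hsup (fun x hx hx1 k hk hxk => by
    by_contra hk1
    have h3 : x ∈ K ⊓ (H : Subgroup X) := ⟨hcent k hk hk1 x hxk, hx⟩
    rw [hinf, mem_bot] at h3
    exact hx1 h3)
  have h6 : Nat.card (ConjClasses K) = 25 := by
    rw [← hK]
    exact classes_of_comm fun a b => Subtype.ext (hKc a a.2 b b.2)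
  have h7 : Nat.card (ConjClasses H) = 4 := by
    rw [← hH]
    have h8 := IsPGroup.commutative_of_card_eq_prime_sq (p := 2) (G := H) (by rw [hH]; norm_num)
    exact classes_of_comm h8
  have h9 : Nat.card (H : Subgroup X) = 4 := hH
  have h10 : Nat.card (ConjClasses (H : Subgroup X)) = 4 := h7
  rw [h9, h10, h6] at h
  omega

end Cfsg.Agent.H261.TI
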