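import Cfsg.Agent.H261.TI.QD
import Cfsg.Agent.H590.MElevenDeg
import Cfsg.Agent.S4956
import Cfsg.Agent.H686.CharKit
import Cfsg.Agent.S0133
import Cfsg.Agent.TwoGenCore.IsoMEleven
import Cfsg.Agent.GH.Cov.SylowThree

/-!
# S4819, S4820: the row `M₁₁`, `p = 3` (helper261)
-/

set_option autoImplicit false

namespace Cfsg.Agent.H261.TI

open Subgroup Cfsg Cfsg.Agent.SporadicA Cfsg.Agent.SporadicA.M11Facts2

universe u

theorem fact_eq_two {n : ℕ} (h0 : n ≠ 0) (h27 : ¬ 27 ∣ n) : n.factorization 3 = 2 ↔ 9 ∣ n := by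
  have h1 : 9 ∣ n ↔ 2 ≤ n.factorization 3 := Nat.prime_three.pow_dvd_iff_le_factorization h0 (k := 2)
  have h2 : 27 ∣ n ↔ 3 ≤ n.factorization 3 := Nat.prime_three.pow_dvd_iff_le_factorization h0 (k := 3)
  omega

/-- the number of characters of 3-defect zero -/
theorem dz_m11 {E : Type u} [Group E] [Finite E] (hE : Cfsg.IsM11 E) :
    Nat.card {χ : IrrCharacter E // (charDegree (χ : E → ℂ)).factorization 3 = (Nat.card E).factorization 3} = 1 := by
  obtain ⟨e, he⟩ := H590.MElevenDeg.exists_equiv hE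
  have hcd : ∀ i, charDegree (e i : E → ℂ) = H590.MElevenDeg.deg10 i := fun i => by
    have h1 := H686.CharKit.charDegree_irr (e i)
    rw [he] at h1
    exact_mod_cast h1
  have h2 : (Nat.card E).factorization 3 = 2 := by
    rw [hE.2, fact_eq_two (by norm_num) (by norm_num)]
    norm_num
  have h3 : Nat.card {i : Fin 10 // 9 ∣ H590.MElevenDeg.deg10 i} = 1 := by
    rw [Nat.card_eq_fintype_card]
    decide
  rw [← h3]
  refine (Nat.card_congr (e.subtypeEquiv fun i => ?_)).symm
  rw [h2, hcd, fact_eq_two]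
  · fin_cases i <;> decide
  · fin_cases i <;> decide

/-- the class number -/
theorem k_m11 {E : Type u} [Group E] [Finite E] (hE : Cfsg.IsM11 E) : Nat.card (ConjClasses E) = 10 := by
  obtain ⟨e, -⟩ := H590.MElevenDeg.exists_equiv hE
  rw [← S0133.result, ← Nat.card_congr e, Nat.card_eq_fintype_card, Fintype.card_fin]

/-- the class number of the normalizer of a Sylow 3-subgroup -/
theorem k_norm_m11 {E : Type u} [Group E] [Finite E] (hE : Cfsg.IsM11 E) (P : Sylow 3 E) :
    Nat.card (ConjClasses (normalizer ((P : Subgroup E) : Set E))) = 9 := by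
  classical
  have : Fact (Nat.Prime 2) := ⟨Nat.prime_two⟩
  have : Fact (Nat.Prime 3) := ⟨Nat.prime_three⟩
  have := hE.1
  set N := normalizer ((P : Subgroup E) : Set E) with hN
  have hN144 : Nat.card N = 144 := M11Norm3.card_normalizer_three hE P
  have hP9 : Nat.card (P : Subgroup E) = 9 := M11Three.card_P hE P
  set V := (P : Subgroup E).subgroupOf N with hV
  have hVn : V.Normal := Subgroup.normal_in_normalizer
  have hV9 : Nat.card V = 9 := by
    rw [← hP9]
    exact Nat.card_congr (subgroupOfEquivOfLe le_normalizer).toEquiv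
  have hVi : V.index = 16 := by
    have h1 := V.card_mul_index
    rw [hV9, hN144] at h1
    omega
  have hcomm : ∀ a ∈ V, ∀ b ∈ V, a * b = b * a := by
    intro a ha b hb
    have h1 := M11Three.comm_P hE P ⟨(a : E), ha⟩ ⟨(b : E), hb⟩
    have h2 : (a : E) * b = b * a := congrArg Subtype.val h1
    exact Subtype.ext h2
  obtain ⟨Q, hQ⟩ := Subgroup.exists_right_complement'_of_coprime (N := V) (by rw [hV9, hVi]; norm_num)
  have hQ16 : Nat.card Q = 16 := by
    have h1 := hQ.card_mul_card
    rw [hV9, hN144] at h1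
    omega
  have hdec : ∀ g : N, ∃ w ∈ V, ∃ q ∈ Q, g = w * q := by
    intro g
    obtain ⟨⟨w, q⟩, h⟩ := hQ.2 g
    exact ⟨w, w.2, q, q.2, h.symm⟩
  -- the Sylow 2-subgroup
  have hkQ : Nat.card (ConjClasses Q) = 7 := by
    have e1 : Q ≃* Q.map N.subtype := Q.equivMapOfInjective N.subtype N.subtype_injective
    have hc : Nat.card (Q.map N.subtype) = 16 := by rw [← Nat.card_congr e1.toEquiv, hQ16]
    let S : Sylow 2 E := Sylow.ofCard (Q.map N.subtype) (by
      rw [hc, hE.2]
      have : (7920 : ℕ) = 2 ^ 4 * 495 := by norm_num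
      rw [this, Nat.factorization_mul (by norm_num) (by norm_num), Finsupp.add_apply,
        Nat.Prime.factorization_pow Nat.prime_two, Finsupp.single_eq_same,
        Nat.factorization_eq_zero_of_not_dvd (by norm_num)]
      rfl)
    have h1 := GH.Cov.SylowThree.mEleven (TwoGenCore.IsoMEleven.isoM11 hE) (by rw [hE.2]; norm_num) S
    rw [classes_congr e1]
    exact classes_qd h1 hc
  -- an element of order three
  obtain ⟨t, ht1⟩ : ∃ t : V, t ≠ 1 := by
    have : Nontrivial V := Finite.one_lt_card_iff_nontrivial.1 (by rw [hV9]; norm_num)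
    exact exists_ne 1
  have hconj : ∀ v ∈ V, v ≠ 1 → ∃ q ∈ Q, q * v * q⁻¹ = t := by
    intro v hv hv1
    obtain ⟨g, hg, hgv⟩ := exists_conj_of_mem_sylow_three hE P (s := ((t : N) : E)) (t := (v : E)) t.2
      (fun h => ht1 (Subtype.ext (Subtype.ext h))) hv (fun h => hv1 (Subtype.ext h))
    obtain ⟨w, hw, q, hq, hgq⟩ := hdec ⟨g, hg⟩
    refine ⟨q, hq, ?_⟩
    have h1 : (⟨g, hg⟩ : N) * v * (⟨g, hg⟩ : N)⁻¹ = t := Subtype.ext hgv
    rw [hgq] at h1
    have h2 : q * v * q⁻¹ ∈ V := hVn.conj_mem v hv q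
    have h3 := hcomm w hw _ h2
    calc q * v * q⁻¹ = w * (q * v * q⁻¹) * w⁻¹ := by rw [h3, mul_inv_cancel_right]
      _ = w * q * v * (w * q)⁻¹ := by group
      _ = t := h1
  -- its centralizer
  have hC2 : Nat.card ↥(Q ⊓ centralizer ({(t : N)} : Set N)) = 2 := by
    let _ : MulAction Q N := MulAction.compHom N ((MulAut.conj : N →* MulAut N).comp Q.subtype)
    have hsm : ∀ (q : Q) (n : N), q • n = q * n * (q : N)⁻¹ := fun _ _ => rfl
    have h1 : MulAction.orbit Q (t : N) = {v : N | v ∈ V ∧ v ≠ 1} := by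
      ext v
      constructor
      · rintro ⟨q, rfl⟩
        refine ⟨hVn.conj_mem _ t.2 _, fun h => ht1 ?_⟩
        have h2 : (q : N) * t * (q : N)⁻¹ = 1 := h
        rw [mul_inv_eq_one, mul_eq_left] at h2
        exact Subtype.ext h2
      · rintro ⟨hv, hv1⟩
        obtain ⟨q, hq, h2⟩ := hconj v hv hv1
        refine ⟨⟨q, hq⟩⁻¹, ?_⟩
        show q⁻¹ * (t : N) * (q⁻¹)⁻¹ = v
        rw [← h2]
        group
    have h2 : (MulAction.stabilizer Q (t : N)).index = 8 := by
      rw [MulAction.index_stabilizer, h1]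
      have h3 : {v : N | v ∈ V ∧ v ≠ 1} = (V : Set N) \ {1} := rfl
      rw [h3, Set.ncard_sdiff_singleton_of_mem V.one_mem]
      have h4 : (V : Set N).ncard = 9 := hV9
      rw [h4]
    have h3 := (MulAction.stabilizer Q (t : N)).card_mul_index
    rw [h2, hQ16] at h3
    have h4 : Nat.card ↥(Q ⊓ centralizer ({(t : N)} : Set N)) = Nat.card (MulAction.stabilizer Q (t : N)) := by
      refine Nat.card_congr
        { toFun := fun x => ⟨⟨x, x.2.1⟩, ?_⟩
          invFun := fun x => ⟨x.1.1, x.1.2, ?_⟩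
          left_inv := fun _ => rfl
          right_inv := fun _ => rfl }
      · rw [MulAction.mem_stabilizer_iff, hsm]
        have h5 := mem_centralizer_singleton_iff.1 x.2.2
        show (x : N) * t * (x : N)⁻¹ = t
        rw [h5, mul_inv_cancel_right]
      · show x.1.1 ∈ centralizer ({(t : N)} : Set N)
        rw [mem_centralizer_singleton_iff]
        have h5 : (x.1.1 : N) * t * (x.1.1 : N)⁻¹ = t := x.2
        exact mul_inv_eq_iff_eq_mul.1 h5
    rw [h4]
    omega
  have h := S4956.result V hcomm Q hQ (by rw [hV9, hQ16]; norm_num) {1, (t : N)} (by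
    intro s hs
    rcases Finset.mem_insert.1 hs with rfl | hs
    · exact V.one_mem
    · rw [Finset.mem_singleton.1 hs]
      exact t.2) (by
    intro v hv
    by_cases hv1 : v = 1
    · subst hv1
      refine ⟨1, ⟨by simp, 1, Q.one_mem, by group⟩, ?_⟩
      rintro s ⟨-, g, -, hg⟩
      rw [← hg]
      group
    · obtain ⟨q, hq, hqv⟩ := hconj v hv hv1
      refine ⟨t, ⟨by simp, q, hq, hqv⟩, ?_⟩
      rintro s ⟨hs, g, -, hg⟩
      rcases Finset.mem_insert.1 hs with rfl | hs
      · exfalso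
        rw [mul_inv_eq_one, mul_eq_left] at hg
        exact hv1 hg
      · exact Finset.mem_singleton.1 hs)
  have hne : (1 : N) ≠ (t : N) := fun h => ht1 (Subtype.ext h.symm)
  rw [h, Finset.sum_pair hne]
  have h1 : Q ⊓ centralizer ({(1 : N)} : Set N) = Q := by
    rw [inf_eq_left]
    intro q _
    rw [mem_centralizer_singleton_iff, mul_one, one_mul]
  rw [h1, hkQ, classes_of_comm, hC2]
  have : Fact (Nat.Prime 2) := ⟨Nat.prime_two⟩
  have hcyc := isCyclic_of_prime_card hC2
  exact fun a b => hcyc.commGroup.mul_comm a b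

/-- **the row `M₁₁`** -/
theorem row_m11 {E : Type u} [Group E] [Finite E] (hE : Cfsg.IsM11 E) (P : Sylow 3 E) :
    Nat.card (ConjClasses E) = Nat.card (ConjClasses (normalizer ((P : Subgroup E) : Set E))) +
      Nat.card {χ : IrrCharacter E // (charDegree (χ : E → ℂ)).factorization 3 = (Nat.card E).factorization 3} := by
  rw [k_m11 hE, k_norm_m11 hE, dz_m11 hE]

end Cfsg.Agent.H261.TI
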