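import Cfsg.Agent.H681.TI.Frame
import Cfsg.Agent.H261.TI.Mathieu
import Cfsg.Agent.H816.OutEmb
import Cfsg.Agent.UGT.End.MEleven
import Cfsg.Agent.S2060
import Cfsg.Agent.S2034

/-!
# S4819: the row `M₁₁`, `p = 3` (helper261)
-/

set_option autoImplicit false

open Cfsg Subgroup

namespace Cfsg.Agent.H261.TI

open Cfsg.Agent.H723.TI (TIs Rk Sit img)
open Cfsg.Agent.H34.TI (Cnt IsTI)

universe u

theorem cnt_m11 {E : Type u} [Group E] [Finite E] (hE : IsM11 E) : Cnt 3 E := fun P _ => row_m11 hE P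

theorem isM11_congr {X : Type u} {Y : Type u} [Group X] [Group Y] (e : X ≃* Y) (h : IsM11 Y) : IsM11 X := by
  have := h.1
  exact ⟨e.isSimpleGroup, (Nat.card_congr e.toEquiv).trans h.2⟩

theorem eq_one_of_mem_isPGroup {H : Type*} [Group H] {p : ℕ} (hp : p.Prime) {R : Subgroup H} (hR : IsPGroup p R) {x : H}
    (hx : x ∈ R) (h : ¬ p ∣ orderOf x) : x = 1 := by
  obtain ⟨k, hk⟩ := hR ⟨x, hx⟩
  have hk' : x ^ p ^ k = 1 := congrArg Subtype.val hk
  have h1 : orderOf x ∣ p ^ k := orderOf_dvd_of_pow_eq_one hk'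
  obtain ⟨j, -, hj⟩ := (Nat.dvd_prime_pow hp).1 h1
  rcases Nat.eq_zero_or_pos j with h0 | h0
  · rw [h0, pow_zero] at hj
    exact orderOf_eq_one_iff.1 hj
  · exact absurd (hj ▸ dvd_pow_self p h0.ne') h

/-- **The row `M₁₁`.** -/
theorem rowM11 : H723.TI.RowM11.{u} := by
  intro G _ _ P S h hPS hS
  have hp3 : Fact (Nat.Prime 3) := ⟨Nat.prime_three⟩
  have hn := h.normal
  have hSM : IsM11 S := UGT.End.MEleven.isM11 hS
  obtain ⟨e⟩ := hS
  have hi : S.index = 1 := by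
    have h1 := H816.OutEmb.index_dvd S (by rw [h.cent]; exact bot_le)
    obtain ⟨f⟩ := H816.OutEmb.out_congr e
    rw [Nat.card_congr f.toEquiv, Cfsg.Agent.S2060.result] at h1
    exact Nat.dvd_one.1 h1
  have hSt : S = ⊤ := index_eq_one.1 hi
  have hHM : IsM11 (G ⧸ pPrimeCore 3 G) := by
    refine isM11_congr (Y := S) ?_ hSM
    exact Subgroup.topEquiv.symm.trans (MulEquiv.subgroupCongr hSt.symm)
  have : (pPrimeCore 3 G).Normal := Lib.Cores.pPrimeCore_normal 3
  let R : Sylow 3 (G ⧸ pPrimeCore 3 G) := P.mapSurjective (QuotientGroup.mk'_surjective (pPrimeCore 3 G))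
  have hR : (R : Subgroup (G ⧸ pPrimeCore 3 G)) = img 3 P := rfl
  refine H681.TI.rk_of_sit P h ?_ hPS ?_ (Or.inl hi) e Cfsg.Agent.S2034.result ?_
  · rw [hSM.2]
    norm_num
  · intro x hx hx3
    rw [← hR, SporadicA.M11Facts2.centralizer_sylow_three hHM R] at hx
    exact eq_one_of_mem_isPGroup Nat.prime_three R.isPGroup' hx hx3
  · intro U hU
    have hU' : S = U := le_antisymm hU (by rw [hSt]; exact le_top)
    subst hU'
    exact cnt_m11 hSM

end Cfsg.Agent.H261.TI
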