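import Cfsg.Agent.H261.TI.RowSz
import Cfsg.Agent.H816.OutEmb
import Cfsg.Agent.S2126
import Cfsg.Agent.OddCyclic.ClaimC.SzIso
import Cfsg.Agent.H73.TI.ZstRes

/-!
# S4819, S4820: the row `Sz(32):5` (helper261)

* `row_sz32` : `k(G) = k(N_G(P)) + #dz(G)` for `L = Sz(32)` normal in `G`, `C_G(L) = 1`, `5 ∣ |G : L|`, with TI Sylow
  `5`-subgroups;
* `index_eq` : `|G : L| = 5`.
-/

set_option autoImplicit false

open Cfsg Subgroup

namespace Cfsg.Agent.H261.TI

open Cfsg.Agent.H666.TI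

universe u v

variable {G : Type u} [Group G] [Finite G] (L : Subgroup G) [L.Normal] {F : Type v} [Field F] [Fintype F]

omit [Finite G] in
theorem index_eq (hc : centralizer (L : Set G) = ⊥) (hF : Fintype.card F = 32) (e : L ≃* Cfsg.Lie.Sz F 8)
    (h5 : L.index ≠ 1) : L.index = 5 := by
  have h1 := H816.OutEmb.index_dvd L (by rw [hc]; exact bot_le)
  obtain ⟨f⟩ := H816.OutEmb.out_congr e
  rw [Nat.card_congr f.toEquiv] at h1
  have h8 : (2 : ℕ) ^ (2 + 1) = 8 := by norm_num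
  have h2 : Nat.card (Cfsg.Out ↥(Cfsg.Lie.Sz F (2 ^ (2 + 1)))) = 2 * 2 + 1 :=
    Cfsg.Agent.S2126.result (by norm_num) (by rw [hF]; norm_num)
  rw [h8] at h2
  rw [h2] at h1
  exact ((Nat.dvd_prime Nat.prime_five).1 h1).resolve_left h5

/-- **The row `Sz(32):5`.** -/
theorem row_sz32 (hc : centralizer (L : Set G) = ⊥) (hF : Fintype.card F = 32) (e : L ≃* Cfsg.Lie.Sz F 8)
    (h5 : L.index ≠ 1) (hTI : IsTI 5 G) (P : Sylow 5 G) :
    Nat.card (ConjClasses G) = Nat.card (ConjClasses (normalizer ((P : Subgroup G) : Set G))) +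
      Nat.card {χ : IrrCharacter G // (charDegree (χ : G → ℂ)).factorization 5 = (Nat.card G).factorization 5} := by
  have hp5 : Fact (Nat.Prime 5) := ⟨Nat.prime_five⟩
  have hF' : Fintype.card F = 2 ^ (2 * 2 + 1) := by rw [hF]; norm_num
  have h8 : (2 : ℕ) ^ (2 + 1) = 8 := by norm_num
  obtain ⟨f⟩ : Nonempty (Sz F 2 ≃* Cfsg.Lie.Sz F 8) := h8 ▸
    Cfsg.Agent.OddCyclic.ClaimC.SzIso.iso (F := F) (m := 2) (by norm_num) hF'
  have e' : L ≃* Sz F 2 := e.trans f.symm
  have hs : IsSimpleGroup (Sz F 2) := Cfsg.Agent.S0325.result (by norm_num) hF'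
  have hsL : IsSimpleGroup L := e'.isSimpleGroup
  have hcard : Nat.card L = 1024 * 1025 * 31 := by rw [Nat.card_congr e'.toEquiv, sz_card hF]
  have hna : ¬ IsMulCommutative L := by
    intro h
    have h1 : ∀ a b : L, a * b = b * a := fun a b => h.is_comm.comm a b
    obtain ⟨V, x, hVx, hV, hcent, -⟩ := exists_torus hF e'
    have hx1 : x ≠ 1 := by
      intro h
      rw [hVx, h, zpowers_one_eq_bot, card_bot] at hV
      omega
    have h2 : V = ⊤ := by
      rw [eq_top_iff]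
      intro y _
      exact hcent x (hVx ▸ mem_zpowers x) hx1 y (h1 _ _)
    rw [h2, card_top, hcard] at hV
    omega
  refine row_of_zst L hF e' (index_eq L hc hF e h5) hTI (fun P => ?_) P
  exact Cfsg.Agent.H73.TI.zst G 5 hTI L inferInstance hsL hna hc (by rw [hcard]; norm_num) P

end Cfsg.Agent.H261.TI
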