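import Cfsg.Agent.H34.TI.Defs
import Cfsg.Agent.H261.TI.RowSzMain

/-!
# S4819: the inputs of the row `Sz(32):5` (helper261)

`H` with a normal subgroup `S = Sz(32)`, `C_H(S) = 1`, `S < H`, TI Sylow `5`-subgroups:
* `index_eq` : `|H : S| = 5`;
* `cnt_sz32` : `Cnt 5 H`;
* `cent_sz32` : the `5'`-elements centralising a Sylow `5`-subgroup are trivial.
-/

set_option autoImplicit false

open Cfsg Subgroup
open scoped Pointwise

namespace Cfsg.Agent.H261.TI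

universe u v

/-- the TI hypotheses -/
theorem isTI_conv {G : Type u} [Group G] [Finite G] {p : ℕ} [Fact p.Prime] {P : Sylow p G}
    (h : H34.TI.IsTI (P : Subgroup G)) : H666.TI.IsTI p G := by
  refine H666.TI.isTI_of_sylow fun P₁ Q₁ x hx hx' hx1 => ?_
  obtain ⟨a, rfl⟩ := MulAction.exists_smul_eq G P P₁
  obtain ⟨b, rfl⟩ := MulAction.exists_smul_eq G P Q₁
  obtain ⟨y, hy, hyx⟩ := hx
  obtain ⟨z, hz, hzx⟩ := hx'
  have hyx' : a * y * a⁻¹ = x := hyx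
  have hzx' : b * z * b⁻¹ = x := hzx
  have hmem : b⁻¹ * a ∈ normalizer ((P : Subgroup G) : Set G) := by
    by_contra hn
    have h1 := h _ hn
    have h2 : z ∈ (P : Subgroup G) ⊓ (MulAut.conj (b⁻¹ * a) • (P : Subgroup G)) := by
      refine ⟨hz, ⟨y, hy, ?_⟩⟩
      show b⁻¹ * a * y * (b⁻¹ * a)⁻¹ = z
      calc b⁻¹ * a * y * (b⁻¹ * a)⁻¹ = b⁻¹ * (a * y * a⁻¹) * b := by group
        _ = b⁻¹ * (b * z * b⁻¹) * b := by rw [hyx', hzx']
        _ = z := by group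
    rw [h1, mem_bot] at h2
    rw [h2] at hzx'
    apply hx1
    rw [← hzx']
    group
  have h3 : (b⁻¹ * a) • P = P := Sylow.smul_eq_iff_mem_normalizer.2 hmem
  calc a • P = b • ((b⁻¹ * a) • P) := by rw [smul_smul, mul_inv_cancel_left]
    _ = b • P := by rw [h3]

variable {G : Type u} [Group G] [Finite G] (L : Subgroup G) [L.Normal] {F : Type v} [Field F] [Fintype F]

theorem cnt_sz32 (hc : centralizer (L : Set G) = ⊥) (hF : Fintype.card F = 32) (e : L ≃* Cfsg.Lie.Sz F 8)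
    (h5 : L.index ≠ 1) : H34.TI.Cnt 5 G := by
  have hp5 : Fact (Nat.Prime 5) := ⟨Nat.prime_five⟩
  exact fun P hP => row_sz32 L hc hF e h5 (isTI_conv hP) P

/-- `C_H(R)` has no `5'`-elements -/
theorem cent_sz32 (hF : Fintype.card F = 32) (e : L ≃* Cfsg.Lie.Sz F 8) (hi : L.index = 5) (R : Sylow 5 G) {x : G}
    (hx : x ∈ centralizer ((R : Subgroup G) : Set G)) (hx5 : ¬ 5 ∣ orderOf x) : x = 1 := by
  have hp5 : Fact (Nat.Prime 5) := ⟨Nat.prime_five⟩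
  have hF' : Fintype.card F = 2 ^ (2 * 2 + 1) := by rw [hF]; norm_num
  have h8 : (2 : ℕ) ^ (2 + 1) = 8 := by norm_num
  obtain ⟨f⟩ : Nonempty (Sz F 2 ≃* Cfsg.Lie.Sz F 8) := h8 ▸
    Cfsg.Agent.OddCyclic.ClaimC.SzIso.iso (F := F) (m := 2) (by norm_num) hF'
  obtain ⟨V, v, hVv, hV, hcent, -⟩ := exists_torus hF (e.trans f.symm)
  have h1 : IsPGroup 5 (V.map L.subtype) := by
    refine IsPGroup.of_card (n := 2) ?_
    rw [Nat.card_congr (V.equivMapOfInjective L.subtype L.subtype_injective).toEquiv.symm, hV]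
    norm_num
  obtain ⟨Q, hQ⟩ := h1.exists_le_sylow
  obtain ⟨g, rfl⟩ := MulAction.exists_smul_eq G Q R
  obtain ⟨l, hl, y, hy, rfl⟩ := exists_mul_sylow hi Q g
  have hyQ : y • Q = Q := Sylow.smul_eq_iff_mem_normalizer.2 (le_normalizer hy)
  rw [mul_smul, hyQ] at hx
  -- the element lies in `L`
  have hxL : x ∈ L := by
    have h2 : x ^ 5 ∈ L := by
      rw [← hi]
      exact Subgroup.pow_index_mem L x
    obtain ⟨n, hn⟩ := exists_pow_eq_self_of_coprime (n := 5) (x := x)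
      ((Nat.Prime.coprime_iff_not_dvd Nat.prime_five).2 hx5)
    rw [← hn]
    exact L.pow_mem h2 n
  have hv1 : v ≠ 1 := by
    intro h
    rw [hVv, h, zpowers_one_eq_bot, card_bot] at hV
    omega
  have hvV : v ∈ V := hVv ▸ mem_zpowers v
  have hzL : l⁻¹ * x * l ∈ L := L.mul_mem (L.mul_mem (L.inv_mem hl) hxL) hl
  have hcomm : (l⁻¹ * x * l) * v = v * (l⁻¹ * x * l) := by
    have h2 : l * v * l⁻¹ ∈ ((l • Q : Sylow 5 G) : Subgroup G) := ⟨v, hQ ⟨v, hvV, rfl⟩, rfl⟩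
    have h3 : l * v * l⁻¹ * x = x * (l * v * l⁻¹) := mem_centralizer_iff.1 hx _ h2
    calc (l⁻¹ * x * l) * v = l⁻¹ * (x * (l * v * l⁻¹)) * l := by group
      _ = l⁻¹ * (l * v * l⁻¹ * x) * l := by rw [h3]
      _ = _ := by group
  have hz : (⟨l⁻¹ * x * l, hzL⟩ : L) ∈ V := hcent v hvV hv1 _ (Subtype.ext hcomm)
  have h4 : (⟨l⁻¹ * x * l, hzL⟩ : L) ^ 25 = 1 := by
    have h5 : (⟨⟨l⁻¹ * x * l, hzL⟩, hz⟩ : V) ^ Nat.card V = 1 := pow_card_eq_one'
    rw [hV] at h5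
    exact congrArg Subtype.val h5
  have h6 : (l⁻¹ * x * l) ^ 25 = 1 := congrArg Subtype.val h4
  have h7 : x ^ 25 = 1 := by
    have h8 : (l⁻¹ * x * l) ^ 25 = l⁻¹ * x ^ 25 * l := by
      have := conj_pow (i := 25) (a := l⁻¹) (b := x)
      rw [inv_inv] at this
      exact this
    rw [h8] at h6
    have h9 : x ^ 25 = l * (l⁻¹ * x ^ 25 * l) * l⁻¹ := by group
    rw [h9, h6]
    group
  have h10 : orderOf x ∣ 5 ^ 2 := orderOf_dvd_of_pow_eq_one h7
  obtain ⟨j, -, hj⟩ := (Nat.dvd_prime_pow Nat.prime_five).1 h10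
  rcases Nat.eq_zero_or_pos j with h0 | h0
  · rw [h0, pow_zero] at hj
    exact orderOf_eq_one_iff.1 hj
  · exact absurd (hj ▸ dvd_pow_self 5 h0.ne') hx5

end Cfsg.Agent.H261.TI
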