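import Cfsg.Agent.H681.TI.Rows
import Cfsg.Agent.H261.TI.GSz
import Cfsg.Agent.S2111

/-!
# S4819: the row `Sz(32):5` (helper261)
-/

set_option autoImplicit false

open Cfsg Subgroup

namespace Cfsg.Agent.H261.TI

universe u

/-- **The row `Sz(32):5`.** -/
theorem rowSz32 : H723.TI.RowSz32.{u} := by
  refine H681.TI.rowSz32_of ?_ ?_ ?_ ?_
  · rintro H _ _ S hA ⟨F, _, _, hF, ⟨e⟩⟩
    have := hA.normal
    rcases eq_or_ne S.index 1 with h | h
    · exact Or.inl h
    · exact Or.inr (index_eq S hA.cent hF e h)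
  · rintro H _ _ S hA ⟨F, _, _, hF, ⟨e⟩⟩ hi R x hx hx5
    have := hA.normal
    exact cent_sz32 S hF e hi R hx hx5
  · intro F _ _ hF
    have h8 : (2 : ℕ) ^ (2 + 1) = 8 := by norm_num
    have h : HasCyclicSchurMultiplier ↥(Lie.Sz F (2 ^ (2 + 1))) 1 :=
      Cfsg.Agent.S2111.result (by norm_num) (by rw [hF]; norm_num)
    rw [h8] at h
    exact h
  · rintro H _ _ S hA ⟨F, _, _, hF, ⟨e⟩⟩ hi
    have := hA.normal
    exact cnt_sz32 S hA.cent hF e (by rw [hi]; norm_num)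

end Cfsg.Agent.H261.TI
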