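import Mathlib

/-!
# The class numbers of a group and of a normal subgroup of prime index (helper261)

`p * k(G) = k(L) + (p ^ 2 - 1) * I`, `I` the number of the classes of `L` whose elements commute with an element
outside `L`.
-/

set_option autoImplicit false

namespace Cfsg.Agent.H261.TI

open Subgroup

/-- `y` commutes with an element outside `L` -/
def Inv {G : Type*} [Group G] (L : Subgroup G) (y : L) : Prop := ∃ g : G, g ∉ L ∧ g * y = y * g

/-- the elements of the class `C` commute with elements outside `L` -/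
def InvC {G : Type*} [Group G] (L : Subgroup G) (C : ConjClasses L) : Prop :=
  ∃ y : L, ConjClasses.mk y = C ∧ Inv L y

theorem Inv.conj {G : Type*} [Group G] {L : Subgroup G} {y z : L} (h : Inv L y) (hyz : IsConj y z) :
    Inv L z := by
  obtain ⟨c, hc⟩ := isConj_iff.1 hyz
  obtain ⟨g, hg, hgy⟩ := h
  refine ⟨c * g * (c : G)⁻¹, fun h => hg ?_, ?_⟩
  · have h1 : (g : G) = (c : G)⁻¹ * (c * g * (c : G)⁻¹) * c := by group
    rw [h1]
    exact L.mul_mem (L.mul_mem (L.inv_mem c.2) h) c.2
  · rw [← hc]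
    show c * g * (c : G)⁻¹ * (c * y * (c : G)⁻¹) = (c * y * (c : G)⁻¹) * (c * g * (c : G)⁻¹)
    calc c * g * (c : G)⁻¹ * (c * y * (c : G)⁻¹) = c * (g * y) * (c : G)⁻¹ := by group
      _ = c * (y * g) * (c : G)⁻¹ := by rw [hgy]
      _ = _ := by group

theorem invC_mk {G : Type*} [Group G] {L : Subgroup G} {y : L} :
    InvC L (ConjClasses.mk y) ↔ Inv L y :=
  ⟨fun ⟨_, h1, h2⟩ => h2.conj (ConjClasses.mk_eq_mk_iff_isConj.1 h1), fun h => ⟨y, rfl, h⟩⟩

/-- orbit and stabilizer for conjugation -/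
theorem card_class_mul {G : Type*} [Group G] [Finite G] (x : G) :
    Nat.card {y : G // ConjClasses.mk y = ConjClasses.mk x} * Nat.card (centralizer ({x} : Set G)) =
      Nat.card G := by
  have h1 := Subgroup.card_mul_index (centralizer ({x} : Set G))
  rw [← h1, mul_comm]
  congr 1
  rw [Subgroup.index]
  refine (Nat.card_congr (Equiv.ofBijective (fun q : G ⧸ centralizer ({x} : Set G) =>
    (Quotient.liftOn' q (fun g : G => (⟨g * x * g⁻¹, ?_⟩ : {y : G // ConjClasses.mk y = ConjClasses.mk x}))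
      ?_)) ⟨?_, ?_⟩)).symm
  · exact ConjClasses.mk_eq_mk_iff_isConj.2 (isConj_iff.2 ⟨g, rfl⟩).symm
  · intro a b hab
    rw [QuotientGroup.leftRel_apply, mem_centralizer_singleton_iff] at hab
    apply Subtype.ext
    show a * x * a⁻¹ = b * x * b⁻¹
    have h2 : a⁻¹ * b * x * (a⁻¹ * b)⁻¹ = x := by rw [hab]; group
    calc a * x * a⁻¹ = a * (a⁻¹ * b * x * (a⁻¹ * b)⁻¹) * a⁻¹ := by rw [h2]
      _ = _ := by group
  · intro a b
    refine Quotient.inductionOn₂' a b fun a b hab => ?_
    have h3 : a * x * a⁻¹ = b * x * b⁻¹ := congrArg Subtype.val hab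
    apply Quotient.sound'
    rw [QuotientGroup.leftRel_apply, mem_centralizer_singleton_iff]
    calc a⁻¹ * b * x = a⁻¹ * (b * x * b⁻¹) * b := by group
      _ = a⁻¹ * (a * x * a⁻¹) * b := by rw [h3]
      _ = _ := by group
  · rintro ⟨y, hy⟩
    obtain ⟨c, hc⟩ := isConj_iff.1 (ConjClasses.mk_eq_mk_iff_isConj.1 hy).symm
    exact ⟨Quotient.mk'' c, Subtype.ext hc⟩

theorem card_centralizer_conj {G : Type*} [Group G] {x y : G} (h : IsConj x y) :
    Nat.card (centralizer ({x} : Set G)) = Nat.card (centralizer ({y} : Set G)) := by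
  obtain ⟨c, hc⟩ := isConj_iff.1 h
  refine Nat.card_congr (((MulAut.conj c).toEquiv).subtypeEquiv fun g => ?_)
  rw [mem_centralizer_singleton_iff, mem_centralizer_singleton_iff]
  show _ ↔ c * g * c⁻¹ * y = y * (c * g * c⁻¹)
  rw [← hc]
  constructor
  · intro h
    calc c * g * c⁻¹ * (c * x * c⁻¹) = c * (g * x) * c⁻¹ := by group
      _ = c * (x * g) * c⁻¹ := by rw [h]
      _ = _ := by group
  · intro h
    calc g * x = c⁻¹ * (c * g * c⁻¹ * (c * x * c⁻¹)) * c := by group
      _ = c⁻¹ * (c * x * c⁻¹ * (c * g * c⁻¹)) * c := by rw [h]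
      _ = _ := by group

/-- the sum of the orders of the centralizers over a union of classes -/
theorem sum_centralizer {G : Type*} [Group G] [Fintype G] (P : ConjClasses G → Prop) [DecidablePred P]
    [DecidablePred fun x : G => P (ConjClasses.mk x)] :
    ∑ x ∈ Finset.univ.filter (fun x : G => P (ConjClasses.mk x)), Nat.card (centralizer ({x} : Set G)) =
      Nat.card {C : ConjClasses G // P C} * Nat.card G := by
  classical
  have hfin : Finite (ConjClasses G) := inferInstance
  have := Fintype.ofFinite (ConjClasses G)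
  rw [← Finset.sum_fiberwise_of_maps_to (t := Finset.univ.filter P) (g := ConjClasses.mk)
    (fun x hx => by simpa using hx)]
  have h1 : ∀ C ∈ Finset.univ.filter P, ∑ x ∈ (Finset.univ.filter
      (fun x : G => P (ConjClasses.mk x))).filter (fun x => ConjClasses.mk x = C),
      Nat.card (centralizer ({x} : Set G)) = Nat.card G := by
    intro C hC
    obtain ⟨x, rfl⟩ := ConjClasses.mk_surjective C
    rw [Finset.filter_filter, Finset.sum_congr rfl (g := fun _ => Nat.card (centralizer ({x} : Set G)))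
      (fun y hy => card_centralizer_conj (ConjClasses.mk_eq_mk_iff_isConj.1
        (Finset.mem_filter.1 hy).2.2)), Finset.sum_const, smul_eq_mul, ← card_class_mul x]
    congr 1
    rw [Nat.card_eq_fintype_card, Fintype.card_subtype]
    congr 1
    ext y
    simp only [Finset.mem_filter, Finset.mem_univ, true_and]
    constructor
    · exact fun h => h.2
    · exact fun h => ⟨by rw [h]; simpa using hC, h⟩
  rw [Finset.sum_congr rfl h1, Finset.sum_const, smul_eq_mul]
  simp only [Nat.card_eq_fintype_card, Fintype.card_subtype]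

/-- the centralizer in a normal subgroup of prime index -/
theorem card_centralizer_of_not_le {G : Type*} [Group G] [Finite G] (L : Subgroup G) [L.Normal] {p : ℕ}
    (hp : p.Prime) (hi : L.index = p) (C : Subgroup G) (hC : ¬ C ≤ L) :
    Nat.card {g : G // g ∈ C ∧ g ∉ L} = (p - 1) * Nat.card {g : G // g ∈ C ∧ g ∈ L} := by
  have h1 : L.relIndex C = p := by
    have h2 : L.relIndex C ∣ L.index := relIndex_dvd_index_of_normal L C
    rw [hi] at h2
    rcases (Nat.dvd_prime hp).1 h2 with h3 | h3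
    · exact absurd (relIndex_eq_one.1 h3) hC
    · exact h3
  have h2 : Nat.card (L.subgroupOf C) * p = Nat.card C := by
    rw [← h1]
    exact Subgroup.card_mul_index _
  have h3 : Nat.card (L.subgroupOf C) = Nat.card {g : G // g ∈ C ∧ g ∈ L} := by
    refine Nat.card_congr ⟨fun x => ⟨x.1.1, x.1.2, x.2⟩, fun x => ⟨⟨x.1, x.2.1⟩, x.2.2⟩, fun x => rfl,
      fun x => rfl⟩
  have h4 : Nat.card C = Nat.card {g : G // g ∈ C ∧ g ∈ L} + Nat.card {g : G // g ∈ C ∧ g ∉ L} := by
    classical
    have := Fintype.ofFinite G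
    rw [show Nat.card C = Nat.card {g : G // g ∈ C} from rfl]
    simp only [Nat.card_eq_fintype_card, Fintype.card_subtype]
    rw [← Finset.filter_filter, ← Finset.filter_filter, Finset.card_filter_add_card_filter_not]
  rw [h3] at h2
  have h5 := hp.one_lt
  obtain ⟨q, rfl⟩ : ∃ q, p = q + 1 := ⟨p - 1, by omega⟩
  rw [Nat.add_sub_cancel]
  have h6 : Nat.card {g : G // g ∈ C ∧ g ∈ L} * (q + 1) = q * Nat.card {g : G // g ∈ C ∧ g ∈ L} +
    Nat.card {g : G // g ∈ C ∧ g ∈ L} := by ring
  omega

/-- **`p * k(G) = k(L) + (p ^ 2 - 1) * I`** -/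
theorem classes_index_prime {G : Type*} [Group G] [Finite G] (L : Subgroup G) [L.Normal] {p : ℕ}
    (hp : p.Prime) (hi : L.index = p) : p * Nat.card (ConjClasses G) =
      Nat.card (ConjClasses L) + (p ^ 2 - 1) * Nat.card {C : ConjClasses L // InvC L C} := by
  classical
  have hft := Fintype.ofFinite G
  let f : G → G → ℕ := fun x g => if g * x = x * g then 1 else 0
  let s : Finset G := Finset.univ.filter fun g => g ∈ L
  let t : Finset G := Finset.univ.filter fun g => ¬ g ∈ L
  have hf : ∀ x g, f x g = f g x := fun x g => by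
    show (if g * x = x * g then 1 else 0) = (if x * g = g * x then 1 else 0)
    exact if_congr ⟨Eq.symm, Eq.symm⟩ rfl rfl
  have hsum : ∀ F : G → ℕ, ∑ x, F x = ∑ x ∈ s, F x + ∑ x ∈ t, F x := fun F =>
    (Finset.sum_filter_add_sum_filter_not _ _ _).symm
  have hs : ∀ x, ∑ g ∈ s, f x g = Nat.card {g : G // g ∈ centralizer ({x} : Set G) ∧ g ∈ L} := by
    intro x
    rw [Nat.card_eq_fintype_card, Fintype.card_subtype, Finset.card_filter, Finset.sum_filter]
    refine Finset.sum_congr rfl fun g _ => ?_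
    rw [mem_centralizer_singleton_iff]
    show (if g ∈ L then (if g * x = x * g then 1 else 0) else 0) = _
    split_ifs <;> tauto
  have ht : ∀ x, ∑ g ∈ t, f x g = Nat.card {g : G // g ∈ centralizer ({x} : Set G) ∧ g ∉ L} := by
    intro x
    rw [Nat.card_eq_fintype_card, Fintype.card_subtype, Finset.card_filter, Finset.sum_filter]
    refine Finset.sum_congr rfl fun g _ => ?_
    rw [mem_centralizer_singleton_iff]
    show (if ¬ g ∈ L then (if g * x = x * g then 1 else 0) else 0) = _
    split_ifs <;> tauto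
  have hall : ∀ x, ∑ g, f x g = Nat.card (centralizer ({x} : Set G)) := by
    intro x
    rw [show Nat.card (centralizer ({x} : Set G)) = Nat.card {g : G // g ∈ centralizer ({x} : Set G)} from rfl,
      Nat.card_eq_fintype_card, Fintype.card_subtype, Finset.card_filter]
    refine Finset.sum_congr rfl fun g _ => ?_
    rw [mem_centralizer_singleton_iff]
  have hcL : ∀ x : L, Nat.card {g : G // g ∈ centralizer ({(x : G)} : Set G) ∧ g ∈ L} =
      Nat.card (centralizer ({x} : Set L)) := by
    intro x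
    refine Nat.card_congr ⟨fun y => ⟨⟨y.1, y.2.2⟩, mem_centralizer_singleton_iff.2 (Subtype.ext
      (mem_centralizer_singleton_iff.1 y.2.1))⟩, fun y => ⟨y.1.1, mem_centralizer_singleton_iff.2
      (congrArg Subtype.val (mem_centralizer_singleton_iff.1 y.2)), y.1.2⟩, fun y => rfl, fun y => rfl⟩
  have hsL : ∀ F : G → ℕ, ∑ x ∈ s, F x = ∑ x : L, F x := fun F =>
    (Finset.sum_subtype s (fun x => by simp [s]) F)
  have hG : ∑ x, ∑ g, f x g = Nat.card (ConjClasses G) * Nat.card G := by
    simp_rw [hall]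
    have h1 := sum_centralizer (G := G) (fun _ => True)
    rw [Finset.filter_true_of_mem (fun _ _ => trivial)] at h1
    rw [h1]
    congr 1
    exact Nat.card_congr (Equiv.subtypeUnivEquiv fun _ => trivial)
  have h1 : ∑ x ∈ s, ∑ g ∈ s, f x g = Nat.card (ConjClasses L) * Nat.card L := by
    simp_rw [hs, hsL, hcL]
    have h1 := sum_centralizer (G := L) (fun _ => True)
    rw [Finset.filter_true_of_mem (fun _ _ => trivial)] at h1
    rw [h1]
    congr 1
    exact Nat.card_congr (Equiv.subtypeUnivEquiv fun _ => trivial)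
  have h2 : ∑ x ∈ s, ∑ g ∈ t, f x g = (p - 1) * (Nat.card {C : ConjClasses L // InvC L C} * Nat.card L) := by
    simp_rw [ht, hsL]
    rw [← sum_centralizer (G := L) (InvC L), Finset.mul_sum, Finset.sum_filter]
    refine Finset.sum_congr rfl fun x _ => ?_
    rw [← hcL]
    split_ifs with h
    · refine card_centralizer_of_not_le L hp hi _ fun hle => ?_
      obtain ⟨g, hg, hgx⟩ := invC_mk.1 h
      exact hg (hle (mem_centralizer_singleton_iff.2 hgx))
    · rw [Nat.card_eq_zero]
      left
      refine ⟨fun g => h (invC_mk.2 ⟨g.1, g.2.2, mem_centralizer_singleton_iff.1 g.2.1⟩)⟩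
  have h3 : ∑ x ∈ t, ∑ g ∈ s, f x g = ∑ x ∈ s, ∑ g ∈ t, f x g := by
    rw [Finset.sum_comm]
    exact Finset.sum_congr rfl fun x _ => Finset.sum_congr rfl fun g _ => hf _ _
  have h4 : ∑ x ∈ t, ∑ g ∈ t, f x g = (p - 1) * ∑ x ∈ t, ∑ g ∈ s, f x g := by
    rw [Finset.mul_sum]
    refine Finset.sum_congr rfl fun x hx => ?_
    rw [ht, hs]
    refine card_centralizer_of_not_le L hp hi _ fun hle => ?_
    exact (Finset.mem_filter.1 hx).2 (hle (mem_centralizer_singleton_iff.2 rfl))
  have h5 : ∑ x, ∑ g, f x g = ∑ x ∈ s, ∑ g ∈ s, f x g + ∑ x ∈ s, ∑ g ∈ t, f x g +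
      (∑ x ∈ t, ∑ g ∈ s, f x g + ∑ x ∈ t, ∑ g ∈ t, f x g) := by
    rw [hsum]
    simp_rw [fun x => hsum (f x)]
    rw [Finset.sum_add_distrib, Finset.sum_add_distrib]
  rw [h4, h3, hG, h1, h2, ← Subgroup.card_mul_index L, hi] at h5
  have h6 : 0 < Nat.card L := Nat.card_pos
  obtain ⟨q, rfl⟩ : ∃ q, p = q + 1 := ⟨p - 1, by have := hp.one_lt; omega⟩
  rw [Nat.add_sub_cancel] at h5
  have h7 : (q + 1) ^ 2 - 1 = q * (q + 2) := by
    rw [Nat.sub_eq_iff_eq_add (Nat.one_le_pow _ _ (by omega))]
    ring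
  rw [h7]
  refine Nat.eq_of_mul_eq_mul_right h6 ?_
  calc (q + 1) * Nat.card (ConjClasses G) * Nat.card L = Nat.card (ConjClasses G) * (Nat.card L * (q + 1)) := by
        ring
    _ = _ := h5
    _ = _ := by ring

end Cfsg.Agent.H261.TI
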