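import Cfsg.Agent.H261.TI.PChar
import Cfsg.Agent.H261.TI.Compare
import Cfsg.Agent.S0173
import Cfsg.Agent.S0133

/-!
# `k(G) = k(N_G(P)) + #dz(G)` in a group with a normal subgroup of index `p` (helper261)
-/

set_option autoImplicit false

open Cfsg
open scoped ComplexConjugate

namespace Cfsg.Agent.H261.TI

open Cfsg.Agent.Characters.Core
open Cfsg.Agent.H666.TI

universe u

variable {G : Type u} [Group G]

/-- the action of an element on the characters of a normal subgroup of prime index -/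
theorem char_mod [Finite G] (L : Subgroup G) [L.Normal] {p : ℕ} [hp : Fact p.Prime] (hi : L.index = p) (g : G)
    (Q : ℕ → Prop) :
    Nat.card {θ : IrrCharacter L // Q (charDegree (θ : L → ℂ))} ≡
      Nat.card {θ : IrrCharacter L // Q (charDegree (θ : L → ℂ)) ∧
        (θ : L → ℂ) ∘ (MulAut.conjNormal g : MulAut L) = (θ : L → ℂ)} [MOD p] := by
  classical
  have := finite_irr (G := L)
  have := Fintype.ofFinite {θ : IrrCharacter L // Q (charDegree (θ : L → ℂ))}
  have hdeg : ∀ (θ : IrrCharacter L) (g : G), charDegree ((θ : L → ℂ) ∘ (MulAut.conjNormal g : MulAut L)) =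
      charDegree (θ : L → ℂ) := by
    intro θ g
    have h1 := H686.CharKit.charDegree_irr ⟨_, Characters.Clifford.isIrr_conjNormal θ.2 g⟩
    have h2 := H686.CharKit.charDegree_irr θ
    have h3 : ((θ : L → ℂ) ∘ (MulAut.conjNormal g : MulAut L)) 1 = (θ : L → ℂ) 1 := by
      rw [Function.comp_apply, map_one]
    have h4 : (charDegree ((θ : L → ℂ) ∘ (MulAut.conjNormal g : MulAut L)) : ℂ) =
        (charDegree (θ : L → ℂ) : ℂ) := by
      rw [h2, ← h3]
      exact h1
    exact_mod_cast h4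
  let f : Function.End {θ : IrrCharacter L // Q (charDegree (θ : L → ℂ))} := fun θ =>
    ⟨⟨(θ.1 : L → ℂ) ∘ (MulAut.conjNormal g : MulAut L), Characters.Clifford.isIrr_conjNormal θ.1.2 g⟩, by
      show Q (charDegree ((θ.1 : L → ℂ) ∘ (MulAut.conjNormal g : MulAut L)))
      rw [hdeg]
      exact θ.2⟩
  have hf : ∀ (k : ℕ) (θ : {θ : IrrCharacter L // Q (charDegree (θ : L → ℂ))}),
      (((f ^ k) θ).1 : L → ℂ) = (θ.1 : L → ℂ) ∘ (MulAut.conjNormal (g ^ k) : MulAut L) := by
    intro k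
    induction k with
    | zero =>
      intro θ
      rw [pow_zero, pow_zero, map_one]
      rfl
    | succ k ih =>
      intro θ
      have h1 : (f ^ (k + 1)) θ = (f ^ k) (f θ) := by rw [pow_succ]; rfl
      rw [h1, ih, pow_succ', map_mul]
      rfl
  have hfp : f ^ p ^ 1 = 1 := by
    rw [pow_one]
    funext θ
    apply Subtype.ext
    apply Subtype.ext
    rw [hf]
    funext n
    have h1 : g ^ p ∈ L := by
      rw [← hi]
      exact Subgroup.pow_index_mem L g
    rw [Function.comp_apply]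
    have h2 := isIrr_isClassFunction θ.1.2 n ⟨g ^ p, h1⟩
    rw [← show (MulAut.conjNormal (g ^ p) : MulAut L) n = ⟨g ^ p, h1⟩ * n * ⟨g ^ p, h1⟩⁻¹ from
      Subtype.ext (by rw [MulAut.conjNormal_apply]; rfl)] at h2
    exact h2
  have h := Equiv.Perm.card_fixedPoints_modEq hfp
  rw [← Nat.card_eq_fintype_card, ← Nat.card_eq_fintype_card] at h
  refine h.trans ?_
  rw [Nat.card_congr (β := {θ : IrrCharacter L // Q (charDegree (θ : L → ℂ)) ∧
        (θ : L → ℂ) ∘ (MulAut.conjNormal g : MulAut L) = (θ : L → ℂ)})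
    ⟨fun θ => ⟨θ.1.1, θ.1.2, congrArg (fun x => (x.1 : L → ℂ)) θ.2⟩,
    fun θ => ⟨⟨θ.1, θ.2.1⟩, Subtype.ext (Subtype.ext θ.2.2)⟩, fun θ => rfl, fun θ => rfl⟩]

/-- the classes fixed by an element outside a normal subgroup of prime index -/
theorem class_fix (L : Subgroup G) [L.Normal] {p : ℕ} [hp : Fact p.Prime] (hi : L.index = p) {g : G}
    (hg : g ∉ L) (C : ConjClasses L) :
    ConjClasses.map (MulAut.conjNormal g : L ≃* L).toMonoidHom C = C ↔ InvC L C := by
  obtain ⟨y, rfl⟩ := ConjClasses.mk_surjective C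
  rw [invC_mk]
  have h0 : ConjClasses.map (MulAut.conjNormal g : L ≃* L).toMonoidHom (ConjClasses.mk y) =
    ConjClasses.mk ((MulAut.conjNormal g : MulAut L) y) := rfl
  rw [h0, ConjClasses.mk_eq_mk_iff_isConj]
  constructor
  · intro h
    obtain ⟨c, hc⟩ := isConj_iff.1 h
    refine ⟨c * g, fun h1 => hg ((L.mul_mem_cancel_left c.2).1 h1), ?_⟩
    have h1 : (c : G) * (g * y * g⁻¹) * (c : G)⁻¹ = y := by
      rw [← MulAut.conjNormal_apply]
      exact congrArg Subtype.val hc
    calc (c : G) * g * y = (c : G) * (g * y * g⁻¹) * (c : G)⁻¹ * (c * g) := by group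
      _ = _ := by rw [h1]
  · rintro ⟨h, hh, hy⟩
    have h1 : ∃ k : ℤ, g * (h ^ k)⁻¹ ∈ L := by
      have h2 : Nat.card (G ⧸ L) = p := hi
      have h3 : (h : G ⧸ L) ≠ 1 := fun h3 => hh ((QuotientGroup.eq_one_iff h).1 h3)
      have h4 : Finite (G ⧸ L) := Nat.finite_of_card_ne_zero (by rw [h2]; exact hp.out.ne_zero)
      obtain ⟨k, hk⟩ := Subgroup.mem_zpowers_iff.1 (mem_zpowers_of_prime_card h2 h3 (g' := (g : G ⧸ L)))
      refine ⟨k, ?_⟩
      rw [← QuotientGroup.eq_one_iff]
      show (g : G ⧸ L) * ((h ^ k : G) : G ⧸ L)⁻¹ = 1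
      rw [QuotientGroup.mk_zpow, hk, mul_inv_cancel]
    obtain ⟨k, hk⟩ := h1
    refine (isConj_iff.2 ⟨⟨g * (h ^ k)⁻¹, hk⟩, Subtype.ext ?_⟩).symm
    rw [MulAut.conjNormal_apply]
    show g * (h ^ k)⁻¹ * y * (g * (h ^ k)⁻¹)⁻¹ = g * y * g⁻¹
    have h5 : h ^ k * y = y * h ^ k := ((show Commute h y from hy).zpow_left k).eq
    have h6 : (h ^ k)⁻¹ * y * h ^ k = y := by rw [mul_assoc, ← h5]; group
    calc g * (h ^ k)⁻¹ * y * (g * (h ^ k)⁻¹)⁻¹ = g * ((h ^ k)⁻¹ * y * h ^ k) * g⁻¹ := by group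
      _ = _ := by rw [h6]

theorem card_inv_eq [Finite G] (L : Subgroup G) [L.Normal] {p : ℕ} [hp : Fact p.Prime] (hi : L.index = p) {g : G}
    (hg : g ∉ L) : Nat.card {C : ConjClasses L // InvC L C} = Nat.card {θ : IrrCharacter L //
      (θ : L → ℂ) ∘ (MulAut.conjNormal g : MulAut L) = (θ : L → ℂ)} := by
  refine Eq.trans ?_ (S0173.result (G := L) (MulAut.conjNormal g : MulAut L))
  exact Nat.card_congr (Equiv.subtypeEquivRight fun C => (class_fix L hi hg C).symm)

theorem exists_not_mem (L : Subgroup G) {p : ℕ} [hp : Fact p.Prime] (hi : L.index = p) : ∃ g : G, g ∉ L := by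
  by_contra h
  push Not at h
  have h1 : L = ⊤ := by
    ext g
    simp [h g]
  rw [h1, Subgroup.index_top] at hi
  exact hp.out.ne_one hi.symm

theorem card_inv_mod [Finite G] (L : Subgroup G) [L.Normal] {p : ℕ} [hp : Fact p.Prime] (hi : L.index = p) :
    Nat.card (ConjClasses L) ≡ Nat.card {C : ConjClasses L // InvC L C} [MOD p] := by
  obtain ⟨g, hg⟩ := exists_not_mem L hi
  rw [card_inv_eq L hi hg, ← S0133.result]
  have h := char_mod L hi g (fun _ => True)
  rw [Nat.card_congr (Equiv.subtypeUnivEquiv (p := fun θ : IrrCharacter L => True) fun _ => trivial)] at h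
  refine h.trans ?_
  rw [Nat.card_congr (Equiv.subtypeEquivRight fun θ => (Iff.of_eq (true_and _)))]

/-- **The core**: a group with a normal subgroup of index `p` and with TI Sylow subgroups -/
theorem core [Finite G] {L : Subgroup G} [L.Normal] {p : ℕ} [hp : Fact p.Prime] (hi : L.index = p)
    (hTI : IsTI p G) (P : Sylow p G) {k : ℕ} (hk : 0 < k)
    (hkL : ∀ θ : IrrCharacter L, ¬ p ^ (k + 1) ∣ charDegree (θ : L → ℂ))
    (hM : Nat.card (ConjClasses (L.subgroupOf (Subgroup.normalizer ((P : Subgroup G) : Set G)))) = 2 * p)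
    (hne : ∃ C, ¬ InvC (L.subgroupOf (Subgroup.normalizer ((P : Subgroup G) : Set G))) C)
    (h0 : Nat.card {θ : IrrCharacter L // ¬ p ^ k ∣ charDegree (θ : L → ℂ)} = 2 * p) :
    Nat.card (ConjClasses G) = Nat.card (ConjClasses (Subgroup.normalizer ((P : Subgroup G) : Set G))) +
      Nat.card {χ : IrrCharacter G // p ^ (k + 1) ∣ charDegree (χ : G → ℂ)} := by
  classical
  have := Fintype.ofFinite G
  set N := Subgroup.normalizer ((P : Subgroup G) : Set G) with hN
  have hiN : (L.subgroupOf N).index = p := index_subgroupOf_normalizer hi P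
  have hp2 := hp.out.two_le
  -- the classes of the normalizer
  have hIM : Nat.card {C : ConjClasses (L.subgroupOf N) // InvC (L.subgroupOf N) C} ≤ p := by
    have h1 := card_inv_mod (L.subgroupOf N) hiN
    rw [hM] at h1
    have h2 : Nat.card {C : ConjClasses (L.subgroupOf N) // InvC (L.subgroupOf N) C} < 2 * p := by
      rw [← hM]
      obtain ⟨C, hC⟩ := hne
      have hfin : Finite (ConjClasses (L.subgroupOf N)) := inferInstance
      exact Finite.card_subtype_lt (x := C) hC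
    have h3 : p ∣ Nat.card {C : ConjClasses (L.subgroupOf N) // InvC (L.subgroupOf N) C} :=
      (h1.dvd_iff (dvd_refl p)).1 (Dvd.intro_left 2 rfl)
    obtain ⟨c, hc⟩ := h3
    rw [hc] at h2 ⊢
    have h4 : c < 2 := by
      by_contra h5
      push Not at h5
      nlinarith
    nlinarith
  have hIL := (card_inv_le hTI hi P).trans hIM
  -- the characters
  obtain ⟨g, hg⟩ := exists_not_mem L hi
  have hfin := finite_irr (G := L)
  have hI := card_inv_eq L hi hg
  have hI0 := char_mod L hi g (fun d => ¬ p ^ k ∣ d)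
  rw [h0] at hI0
  have hsub : Nat.card {θ : IrrCharacter L // (¬ p ^ k ∣ charDegree (θ : L → ℂ)) ∧
      (θ : L → ℂ) ∘ (MulAut.conjNormal g : MulAut L) = (θ : L → ℂ)} ≤ Nat.card {θ : IrrCharacter L //
      (θ : L → ℂ) ∘ (MulAut.conjNormal g : MulAut L) = (θ : L → ℂ)} :=
    Nat.card_le_card_of_injective (fun θ => ⟨θ.1, θ.2.2⟩) (fun a b h => Subtype.ext (congrArg (fun x => x.1) h))
  have hpos : p ≤ Nat.card {θ : IrrCharacter L // (¬ p ^ k ∣ charDegree (θ : L → ℂ)) ∧
      (θ : L → ℂ) ∘ (MulAut.conjNormal g : MulAut L) = (θ : L → ℂ)} := by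
    have h3 := (hI0.dvd_iff (dvd_refl p)).1 (Dvd.intro_left 2 rfl)
    refine Nat.le_of_dvd ?_ h3
    rw [Nat.card_pos_iff]
    refine ⟨⟨⟨⟨(1 : L → ℂ), isIrr_one⟩, ?_, rfl⟩⟩, inferInstance⟩
    have h1 : charDegree (1 : L → ℂ) = 1 := by
      have h := H686.CharKit.charDegree_irr (⟨(1 : L → ℂ), isIrr_one⟩ : IrrCharacter L)
      have h' : (charDegree (1 : L → ℂ) : ℂ) = 1 := h
      exact_mod_cast h'
    show ¬ p ^ k ∣ charDegree (1 : L → ℂ)
    rw [h1, Nat.dvd_one]
    intro h2
    have := Nat.pow_eq_one.1 h2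
    have := hp.out.one_lt
    omega
  rw [hI] at hIL
  have hIp : Nat.card {θ : IrrCharacter L // (θ : L → ℂ) ∘ (MulAut.conjNormal g : MulAut L) = (θ : L → ℂ)} = p :=
    le_antisymm hIL (hpos.trans hsub)
  have hIMp : Nat.card {C : ConjClasses (L.subgroupOf N) // InvC (L.subgroupOf N) C} = p := by
    refine le_antisymm hIM ?_
    have h1 := card_inv_le hTI hi P
    rw [hI, hIp] at h1
    exact h1
  -- the invariant characters have small degree
  have hinv : ∀ θ : IrrCharacter L, (θ : L → ℂ) ∘ (MulAut.conjNormal g : MulAut L) = (θ : L → ℂ) →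
      ¬ p ^ k ∣ charDegree (θ : L → ℂ) := by
    intro θ hθ
    have hinj : Function.Injective (fun θ : {θ : IrrCharacter L // (¬ p ^ k ∣ charDegree (θ : L → ℂ)) ∧
      (θ : L → ℂ) ∘ (MulAut.conjNormal g : MulAut L) = (θ : L → ℂ)} => (⟨θ.1, θ.2.2⟩ : {θ : IrrCharacter L //
      (θ : L → ℂ) ∘ (MulAut.conjNormal g : MulAut L) = (θ : L → ℂ)})) :=
      fun a b h => Subtype.ext (congrArg (fun x => x.1) h)
    have hcard : Nat.card {θ : IrrCharacter L // (θ : L → ℂ) ∘ (MulAut.conjNormal g : MulAut L) = (θ : L → ℂ)} ≤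
        Nat.card {θ : IrrCharacter L // (¬ p ^ k ∣ charDegree (θ : L → ℂ)) ∧
      (θ : L → ℂ) ∘ (MulAut.conjNormal g : MulAut L) = (θ : L → ℂ)} := by rw [hIp]; exact hpos
    have hbij := (Nat.bijective_iff_injective_and_card _).2 ⟨hinj, le_antisymm hsub hcard⟩
    obtain ⟨θ', hθ'⟩ := hbij.2 ⟨θ, hθ⟩
    have h1 : θ'.1 = θ := congrArg (fun x => x.1) hθ'
    rw [← h1]
    exact θ'.2.1
  have hlarge := card_large L hp.out hi k hkL (fun θ hθ hst => by
    refine hinv θ ?_ hθ
    funext n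
    have h1 : g ∈ stab L (θ : L → ℂ) := by rw [hst]; trivial
    rw [Function.comp_apply, ← h1 n]
    congr 1)
  -- the count
  have hG := classes_index_prime L hp.out hi
  have hNN := classes_index_prime (L.subgroupOf N) hp.out hiN
  rw [hI, hIp] at hG
  rw [hIMp, hM] at hNN
  have hkLL : Nat.card (ConjClasses L) = 2 * p + Nat.card {θ : IrrCharacter L // p ^ k ∣ charDegree (θ : L → ℂ)} := by
    rw [← S0133.result, ← h0]
    have := Fintype.ofFinite (IrrCharacter L)
    simp only [Nat.card_eq_fintype_card, Fintype.card_subtype]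
    rw [add_comm, Finset.card_filter_add_card_filter_not, Finset.card_univ]
  rw [hkLL, ← hlarge] at hG
  have hp0 := hp.out.pos
  have h9 : p * Nat.card (ConjClasses G) = p * (Nat.card (ConjClasses N) +
      Nat.card {χ : IrrCharacter G // p ^ (k + 1) ∣ charDegree (χ : G → ℂ)}) := by
    rw [mul_add, hNN, hG]
    ring
  exact Nat.eq_of_mul_eq_mul_left hp0 h9

end Cfsg.Agent.H261.TI
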