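import Cfsg.Agent.H678.SuzDegs

/-!
# The characters of `Sz(32)` of degree prime to `25` (helper261)
-/

set_option autoImplicit false

open Cfsg MulAction

namespace Cfsg.Agent.H261.TI

open Cfsg.Agent.Characters Cfsg.Agent.Characters.CCValues Cfsg.Agent.Characters.CCBasic Cfsg.Agent.Characters.CCEstimates Cfsg.Agent.H678.CCExact
  Cfsg.Agent.H678.SuzChar Finset

universe u

/-- the characters of degree not divisible by `25`, from the data of a CC-subgroup of order `25` -/
theorem nondz_of {X : Type u} [Group X] [Fintype X] [Fintype (IrrCharacter X)] {B : Subgroup X}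
    (D : CCData B 6 4) (hB : Nat.card B = 25) (St : IrrCharacter X) (hne : one X ≠ St)
    (hSt : ∀ a ∈ B, a ≠ 1 → (St : X → ℂ) a = -1) :
    Nat.card {θ : IrrCharacter X // ¬ 25 ∣ charDegree (θ : X → ℂ)} = 10 := by
  classical
  have hB0 : B ≠ ⊥ := by
    rintro rfl
    rw [Subgroup.card_bot] at hB
    omega
  obtain ⟨o1, p1⟩ := const D hB0 (ψ := one X) (z := 1) (fun a _ _ => by rw [coe_one]; simp)
  obtain ⟨t1, u1⟩ := const D hB0 (ψ := St) (z := -1) (fun a ha ha1 => by rw [hSt a ha ha1]; simp)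
  have cD : D.c = 0 := c_eq_zero D hne (by rw [p1]; norm_num) (by rw [u1]; norm_num) (by norm_num) (by norm_num)
  have sqD : ∑ ψ, D.f ψ ^ 2 = 4 := by have := D.sq; rw [cD] at this; push_cast at this; linarith
  have hf : ∀ ψ, D.f ψ ^ 2 = if D.f ψ ≠ 0 then 1 else 0 := by
    intro ψ
    by_cases h1 : ψ = one X
    · rw [h1, p1]; norm_num
    by_cases h2 : ψ = St
    · rw [h2, u1]; norm_num
    have h := lower D hne (by rw [p1]; norm_num) (by rw [u1]; norm_num) (R' := {ψ}) (z := D.f ψ)
      (by simp) (by simpa using Ne.symm h1) (by simpa using Ne.symm h2)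
    rw [sqD, Finset.card_singleton] at h
    push_cast at h
    have h3 : D.f ψ ^ 2 ≤ 2 := by linarith
    have h4 : D.f ψ < 2 := by nlinarith
    have h5 : -2 < D.f ψ := by nlinarith
    have h6 : D.f ψ = -1 ∨ D.f ψ = 0 ∨ D.f ψ = 1 := by omega
    rcases h6 with h6 | h6 | h6 <;> rw [h6] <;> norm_num
  have hcard : (univ.filter fun ψ => D.f ψ ≠ 0).card = 4 := by
    have h1 : ((univ.filter fun ψ => D.f ψ ≠ 0).card : ℤ) = 4 := by
      rw [← sqD, Finset.sum_congr rfl (fun ψ _ => hf ψ), Finset.card_filter]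
      push_cast
      rfl
    exact_mod_cast h1
  have hiff : ∀ ψ : IrrCharacter X, ¬ 25 ∣ charDegree (ψ : X → ℂ) ↔ ψ ∈ D.R ∪ univ.filter fun ψ => D.f ψ ≠ 0 := by
    intro ψ
    rw [Finset.mem_union, Finset.mem_filter]
    by_cases hR : ψ ∈ D.R
    · refine ⟨fun _ => Or.inl hR, fun _ hdvd => ?_⟩
      have h1 := D.ddvd
      rw [hB, cD, add_zero, ← D.deg ψ hR] at h1
      have h2 : ((25 : ℕ) : ℤ) ∣ (charDegree (ψ : X → ℂ) : ℤ) := Int.natCast_dvd_natCast.2 hdvd
      have h3 : ((25 : ℕ) : ℤ) ∣ D.ε * (4 : ℕ) := by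
        have := dvd_sub h2 h1
        rwa [sub_sub_cancel] at this
      rcases D.hε with h | h
      · rw [h] at h3
        norm_num at h3
      · rw [h] at h3
        norm_num at h3
    · have h1 := D.dvd ψ hR
      rw [hB] at h1
      have h2 : 25 ∣ charDegree (ψ : X → ℂ) ↔ ((25 : ℕ) : ℤ) ∣ D.f ψ := by
        rw [← Int.natCast_dvd_natCast]
        constructor
        · intro h
          have := dvd_sub h h1
          rwa [sub_sub_cancel] at this
        · intro h
          have := dvd_add h1 h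
          rwa [sub_add_cancel] at this
      rw [h2]
      constructor
      · intro h
        refine Or.inr ⟨mem_univ _, fun h0 => h (h0 ▸ dvd_zero _)⟩
      · rintro (h | ⟨-, h0⟩) hdvd
        · exact hR h
        · have h3 := hf ψ
          rw [if_pos h0] at h3
          have h4 : D.f ψ = 1 ∨ D.f ψ = -1 := mul_self_eq_one_iff.1 (by rwa [sq] at h3)
          rcases h4 with h4 | h4 <;> rw [h4] at hdvd <;> norm_num at hdvd
  have hdisj : Disjoint D.R (univ.filter fun ψ => D.f ψ ≠ 0) := by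
    rw [Finset.disjoint_left]
    intro ψ h1 h2
    exact (Finset.mem_filter.1 h2).2 (D.hf0 ψ h1)
  have h := Finset.card_union_of_disjoint hdisj
  rw [D.hcard, hcard] at h
  rw [Nat.card_congr (Equiv.subtypeEquivRight hiff), Nat.card_eq_fintype_card, Fintype.card_coe, h]

variable {F : Type u} [Field F] [Fintype F]

theorem sz_card (hF : Fintype.card F = 32) : Nat.card (Sz F 2) = 1024 * 1025 * 31 := by
  rw [S0324.result (by norm_num) (by rw [hF]; norm_num)]
  norm_num

/-- the cyclic subgroup of order `25` -/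
theorem sz_torus (hF : Fintype.card F = 32) : ∃ U : Subgroup (Sz F 2), IsCyclic U ∧ Nat.card U = 25 ∧
    (∀ u ∈ U, u ≠ 1 → Subgroup.centralizer {u} = U) ∧
    Nat.card (Subgroup.normalizer (U : Set (Sz F 2))) = 100 := by
  obtain ⟨U, h1, h2, h3, h4⟩ := S0333.result (F := F) (m := 2) (by norm_num) (by rw [hF]; norm_num)
    (2 ^ (2 * 2 + 1) - 2 ^ (2 + 1) + 1) (by right; rfl)
  norm_num at h2 h4
  exact ⟨U, h1, h2, h3, h4⟩

/-- **The characters of `Sz(32)` of degree not divisible by `25`** -/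
theorem sz_nondz (hF : Fintype.card F = 32) :
    Nat.card {θ : IrrCharacter (Sz F 2) // ¬ 25 ∣ charDegree (θ : Sz F 2 → ℂ)} = 10 := by
  classical
  have hF' : Fintype.card F = 2 ^ (2 * 2 + 1) := by rw [hF]; norm_num
  have : Fintype (Sz F 2) := Fintype.ofFinite _
  have : Finite (IrrCharacter (Sz F 2)) := Characters.Core.finite_irr
  have : Fintype (IrrCharacter (Sz F 2)) := Fintype.ofFinite _
  have hXcard : Nat.card (suzukiOvoid F 2) = 1025 := by rw [S0326.result, hF]; norm_num
  have : Finite (suzukiOvoid F 2) := Nat.finite_of_card_ne_zero (by rw [hXcard]; omega)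
  obtain ⟨-, h2, h3, -, -⟩ := S0327.result (F := F) (m := 2) (by norm_num) hF'
  have : IsPretransitive (Sz F 2) (suzukiOvoid F 2) := by
    have h21 : IsMultiplyPretransitive (Sz F 2) (suzukiOvoid F 2) 1 :=
      isMultiplyPretransitive_of_le (n := 2) (by norm_num) (by rw [hXcard]; norm_num)
    exact is_one_pretransitive_iff.1 h21
  obtain ⟨U, -, hU, hcent, hN⟩ := sz_torus hF
  have hcc : IsCC U := ⟨by
    rintro rfl
    rw [Subgroup.card_bot] at hU
    omega, hcent⟩
  have hlen : len U = 4 := by rw [len, hN, hU]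
  obtain ⟨D⟩ := nonempty_ccData hcc hlen (s := 6) (by omega) (by norm_num)
  have hSt := (S0157.result (G := Sz F 2) (suzukiOvoid F 2) (by rw [hXcard]; norm_num)).2 h2
  set St : IrrCharacter (Sz F 2) := ⟨_, hSt⟩ with hStdef
  have hStv : ∀ g : Sz F 2, (St : Sz F 2 → ℂ) g = (Nat.card (fixedBy (suzukiOvoid F 2) g) : ℂ) - 1 := fun g => rfl
  have hStab : ∀ z : suzukiOvoid F 2, Nat.card (stabilizer (Sz F 2) z) = 1024 * 31 := by
    intro z
    have h := Subgroup.card_mul_index (stabilizer (Sz F 2) z)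
    rw [MulAction.index_stabilizer_of_transitive, hXcard, sz_card hF] at h
    omega
  have hfix : ∀ a ∈ U, a ≠ 1 → fixedBy (suzukiOvoid F 2) a = ∅ := by
    intro a ha ha1
    rw [Set.eq_empty_iff_forall_notMem]
    intro z hz
    have h1 : orderOf a ∣ 25 := hU ▸ Subgroup.orderOf_dvd_natCard _ ha
    have h4 : orderOf a ∣ 1024 * 31 := hStab z ▸ Subgroup.orderOf_dvd_natCard (stabilizer (Sz F 2) z) hz
    have h5 : Nat.Coprime 25 (1024 * 31) := by norm_num
    exact ha1 (orderOf_eq_one_iff.1 (Nat.eq_one_of_dvd_coprimes h5 h1 h4))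
  refine nondz_of D hU St ?_ fun a ha ha1 => ?_
  · intro h
    have h1 : ((one (Sz F 2) : IrrCharacter (Sz F 2)) : Sz F 2 → ℂ) 1 = (St : Sz F 2 → ℂ) 1 := by rw [h]
    rw [CCValues.coe_one, hStv, fixedBy_one_eq_univ, Nat.card_coe_set_eq, Set.ncard_univ, hXcard] at h1
    norm_num at h1
  · rw [hStv, hfix a ha ha1, Nat.card_coe_set_eq, Set.ncard_empty]
    norm_num

end Cfsg.Agent.H261.TI
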