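import Cfsg.Agent.H261.TI.PCore
import Cfsg.Agent.H261.TI.SzChar
import Cfsg.Agent.H261.TI.Frob
import Cfsg.Agent.S0135
import Cfsg.Agent.S0325
import Cfsg.Agent.H616.TI.Defs

/-!
# S4819, S4820: the row `Sz(32):5` (helper261)

The `Z*`-statement `GoalZst` (helper616, helper73) is a hypothesis here; see `RowSzMain`.
-/

set_option autoImplicit false

open Cfsg Subgroup

namespace Cfsg.Agent.H261.TI

open Cfsg.Agent.Characters.Core
open Cfsg.Agent.H666.TI

universe u v

theorem charDegree_dvd {G : Type*} [Group G] [Finite G] (χ : IrrCharacter G) :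
    charDegree (χ : G → ℂ) ∣ Nat.card G := by
  have : Fintype G := Fintype.ofFinite G
  obtain ⟨χ, n, ρ, hρ, rfl⟩ := χ
  have h1 := Cfsg.Agent.S0135.result ρ
  have h2 : (charDegree ρ.character : ℂ) = ρ.character 1 :=
    H686.CharKit.charDegree_cast (isIrr_isCharacter ⟨n, ρ, hρ, rfl⟩)
  rw [Representation.char_one] at h2
  have h3 : charDegree ρ.character = Module.finrank ℂ (Fin n → ℂ) := by exact_mod_cast h2
  rw [h3]
  exact h1

theorem charDegree_comp {G : Type*} {H : Type*} [Group G] [Group H] (e : G ≃* H) (θ : H → ℂ) :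
    charDegree (θ ∘ e) = charDegree θ := by
  show ⌊(θ (e 1)).re⌋₊ = ⌊(θ 1).re⌋₊
  rw [map_one]

/-- the characters of isomorphic groups -/
theorem card_irr_congr {G : Type u} {H : Type v} [Group G] [Finite G] [Group H] [Finite H] (e : G ≃* H)
    (Q : ℕ → Prop) : Nat.card {θ : IrrCharacter G // Q (charDegree (θ : G → ℂ))} =
      Nat.card {θ : IrrCharacter H // Q (charDegree (θ : H → ℂ))} := by
  refine Nat.card_congr ⟨fun θ => ⟨⟨(θ.1 : G → ℂ) ∘ e.symm, isIrr_comp (e.symm : H →* G) e.symm.surjective θ.1.2⟩, ?_⟩,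
    fun θ => ⟨⟨(θ.1 : H → ℂ) ∘ e, isIrr_comp (e : G →* H) e.surjective θ.1.2⟩, ?_⟩, fun θ => ?_, fun θ => ?_⟩
  · show Q (charDegree ((θ.1 : G → ℂ) ∘ e.symm))
    rw [charDegree_comp]
    exact θ.2
  · show Q (charDegree ((θ.1 : H → ℂ) ∘ e))
    rw [charDegree_comp]
    exact θ.2
  · apply Subtype.ext
    apply Subtype.ext
    funext x
    show (θ.1 : G → ℂ) (e.symm (e x)) = _
    rw [e.symm_apply_apply]
  · apply Subtype.ext
    apply Subtype.ext
    funext x
    show (θ.1 : H → ℂ) (e (e.symm x)) = _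
    rw [e.apply_symm_apply]

/-- the torus of order `25` of a group isomorphic to `Sz(32)` -/
theorem exists_torus {F : Type v} [Field F] [Fintype F] (hF : Fintype.card F = 32) {L : Type u} [Group L] [Finite L]
    (e : L ≃* Sz F 2) : ∃ (V : Subgroup L) (x : L), V = zpowers x ∧ Nat.card V = 25 ∧
      (∀ v ∈ V, v ≠ 1 → ∀ y : L, y * v = v * y → y ∈ V) ∧ Nat.card (normalizer (V : Set L)) = 100 := by
  obtain ⟨U, hUc, hU, hcent, hN⟩ := sz_torus hF
  have hcV : Nat.card (U.comap (e : L →* Sz F 2)) = 25 := by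
    rw [← hU]
    exact Nat.card_congr (e.toEquiv.subtypeEquiv fun x => Iff.rfl)
  obtain ⟨⟨u, hu⟩, hgen⟩ := hUc.exists_generator
  refine ⟨U.comap (e : L →* Sz F 2), e.symm u, ?_, hcV, ?_, ?_⟩
  · ext y
    show e y ∈ U ↔ _
    rw [mem_zpowers_iff]
    constructor
    · intro hy
      obtain ⟨k, hk⟩ := mem_zpowers_iff.1 (hgen ⟨e y, hy⟩)
      refine ⟨k, e.injective ?_⟩
      rw [map_zpow, e.apply_symm_apply]
      exact congrArg Subtype.val hk
    · rintro ⟨k, rfl⟩
      rw [map_zpow, e.apply_symm_apply]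
      exact U.zpow_mem hu k
  · intro v hv hv1 y hy
    have h1 : e y ∈ centralizer ({e v} : Set (Sz F 2)) := by
      rw [mem_centralizer_singleton_iff, ← map_mul, hy, map_mul]
    rw [hcent (e v) hv (fun h => hv1 (e.injective (h.trans (map_one e).symm)))] at h1
    exact h1
  · rw [← hN]
    refine Nat.card_congr (e.toEquiv.subtypeEquiv fun x => ?_)
    show _ ↔ e x ∈ normalizer (U : Set (Sz F 2))
    rw [mem_normalizer_iff, mem_normalizer_iff]
    constructor
    · intro h y
      have h1 := h (e.symm y)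
      have h2 : (e.symm y ∈ U.comap (e : L →* Sz F 2)) ↔ y ∈ U := by
        show e (e.symm y) ∈ U ↔ _
        rw [e.apply_symm_apply]
      have h3 : (x * e.symm y * x⁻¹ ∈ U.comap (e : L →* Sz F 2)) ↔ e x * y * (e x)⁻¹ ∈ U := by
        show e (x * e.symm y * x⁻¹) ∈ U ↔ _
        rw [map_mul, map_mul, map_inv, e.apply_symm_apply]
      rw [← h2, ← h3]
      exact h1
    · intro h y
      show e y ∈ U ↔ e (x * y * x⁻¹) ∈ U
      rw [map_mul, map_mul, map_inv]
      exact h (e y)

section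

variable {G : Type u} [Group G] [Finite G] (L : Subgroup G) [L.Normal]

omit [Finite G] [L.Normal] in
theorem card_eq (hi : L.index = 5) (hL : Nat.card L = 1024 * 1025 * 31) : Nat.card G = 5 ^ 3 * 1301504 := by
  rw [← Subgroup.card_mul_index L, hi, hL]
  norm_num

omit [Finite G] in
theorem fact_eq {n : ℕ} (h0 : n ≠ 0) (h : n ∣ 5 ^ 3 * 1301504) : n.factorization 5 = (5 ^ 3 * 1301504 : ℕ).factorization 5 ↔
    5 ^ 3 ∣ n := by
  have h1 : (5 ^ 3 * 1301504 : ℕ).factorization 5 = 3 := by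
    rw [Nat.factorization_mul (by norm_num) (by norm_num),
        Nat.factorization_pow, Finsupp.add_apply, Finsupp.smul_apply, Nat.prime_five.factorization_self,
        Nat.factorization_eq_zero_of_not_dvd (by norm_num : ¬ 5 ∣ 1301504)]
    norm_num
  rw [h1, Nat.prime_five.pow_dvd_iff_le_factorization h0]
  have h2 : n.factorization 5 ≤ 3 := by
    rw [← h1]
    exact (Nat.factorization_le_iff_dvd h0 (by norm_num)).2 h 5
  omega

/-- the row for a Sylow subgroup containing a given torus of `L` -/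
theorem row_aux (hi : L.index = 5) (hL : Nat.card L = 1024 * 1025 * 31) (hTI : IsTI 5 G) (P : Sylow 5 G)
    (V : Subgroup L) (x : L) (hVx : V = zpowers x) (hV : Nat.card V = 25)
    (hcent : ∀ v ∈ V, v ≠ 1 → ∀ y : L, y * v = v * y → y ∈ V) (hN : Nat.card (normalizer (V : Set L)) = 100)
    (hVP : V.map L.subtype ≤ P) (hzst : (P : Subgroup G) ⊓ centralizer (((P : Subgroup G) ⊓ L : Subgroup G) : Set G) ≤ L)
    (h0 : Nat.card {θ : IrrCharacter L // ¬ 25 ∣ charDegree (θ : L → ℂ)} = 10) :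
    Nat.card (ConjClasses G) = Nat.card (ConjClasses (normalizer ((P : Subgroup G) : Set G))) +
      Nat.card {χ : IrrCharacter G // 5 ^ 3 ∣ charDegree (χ : G → ℂ)} := by
  have hp5 : Fact (Nat.Prime 5) := ⟨Nat.prime_five⟩
  -- the intersection
  have hPL : (P : Subgroup G) ⊓ L = V.map L.subtype := by
    have h1 : V.map L.subtype ≤ (P : Subgroup G) ⊓ L := le_inf hVP (map_subtype_le V)
    have h2 : IsPGroup 5 ↥((P : Subgroup G) ⊓ L) := P.isPGroup'.to_le inf_le_left
    obtain ⟨j, hj⟩ := (IsPGroup.iff_card.1 h2)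
    have h3 : Nat.card ↥((P : Subgroup G) ⊓ L) ∣ 1024 * 1025 * 31 := hL ▸ card_dvd_of_le inf_le_right
    have h4 : j ≤ 2 := by
      rw [hj] at h3
      by_contra h5
      push Not at h5
      have h6 : 5 ^ 3 ∣ 1024 * 1025 * 31 := (pow_dvd_pow 5 h5).trans h3
      norm_num at h6
    have h5 : Nat.card (V.map L.subtype) = 25 := by
      rw [← hV]
      exact Nat.card_congr (V.equivMapOfInjective L.subtype L.subtype_injective).toEquiv.symm
    refine (Subgroup.eq_of_le_of_card_ge h1 ?_).symm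
    rw [h5, hj]
    exact (Nat.pow_le_pow_right (by norm_num) h4).trans (by norm_num)
  have hx1 : x ≠ 1 := by
    intro h
    rw [hVx, h, zpowers_one_eq_bot, card_bot] at hV
    omega
  have hxV : x ∈ V := hVx ▸ mem_zpowers x
  have hxP : (x : G) ∈ P := hVP ⟨x, hxV, rfl⟩
  have hxG1 : (x : G) ≠ 1 := fun h => hx1 (Subtype.ext h)
  -- the normalizer
  have hmem : ∀ y : L, (y : G) ∈ normalizer ((P : Subgroup G) : Set G) ↔ y ∈ normalizer (V : Set L) := by
    intro y
    constructor
    · intro hy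
      rw [mem_normalizer_iff] at hy ⊢
      intro v
      have h1 : ∀ v : L, v ∈ V ↔ (v : G) ∈ (P : Subgroup G) := by
        intro v
        constructor
        · exact fun hv => hVP ⟨v, hv, rfl⟩
        · intro hv
          have h2 : (v : G) ∈ (P : Subgroup G) ⊓ L := ⟨hv, v.2⟩
          rw [hPL] at h2
          obtain ⟨w, hw, hwv⟩ := h2
          rwa [← Subtype.ext hwv]
      rw [h1, h1]
      exact hy v
    · intro hy
      rw [mem_normalizer_iff] at hy
      have h1 : y * x * y⁻¹ ∈ V := (hy x).1 hxV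
      exact Cfsg.Agent.H73.TI.Zst.mem_normalizer hTI hxP hxG1 (hVP ⟨_, h1, rfl⟩)
  set N := normalizer ((P : Subgroup G) : Set G) with hNdef
  have hM : Nat.card (L.subgroupOf N) = 100 := by
    rw [← hN]
    exact Nat.card_congr ⟨fun m => ⟨⟨m.1.1, m.2⟩, (hmem _).1 m.1.2⟩, fun y => ⟨⟨y.1.1, (hmem _).2 y.2⟩, y.1.2⟩,
      fun m => rfl, fun y => rfl⟩
  let K : Subgroup (L.subgroupOf N) := V.comap (incl L N)
  have hKc : Nat.card K = 25 := by
    rw [← hV]
    refine Nat.card_congr ⟨fun m => ⟨incl L N m.1, m.2⟩, fun v => ⟨⟨⟨v.1.1, (hmem _).2 (le_normalizer v.2)⟩, v.1.2⟩, v.2⟩,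
      fun m => rfl, fun v => rfl⟩
  have hVcomm : ∀ a ∈ V, ∀ b ∈ V, a * b = b * a := by
    intro a ha b hb
    rw [hVx] at ha hb
    obtain ⟨i, rfl⟩ := mem_zpowers_iff.1 ha
    obtain ⟨j, rfl⟩ := mem_zpowers_iff.1 hb
    rw [← zpow_add, ← zpow_add, add_comm]
  have hinj : Function.Injective (incl L N) := fun a b h =>
    Subtype.ext (Subtype.ext (congrArg (fun z : L => (z : G)) h))
  have hKn : K.Normal := by
    refine ⟨fun k hk m => ?_⟩
    have h1 : incl L N m ∈ normalizer (V : Set L) := (hmem _).1 m.1.2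
    rw [mem_normalizer_iff] at h1
    exact (h1 _).1 hk
  have hkM : Nat.card (ConjClasses (L.subgroupOf N)) = 2 * 5 := by
    refine classes_frob100 hM K hKc ?_ ?_
    · intro a ha b hb
      exact hinj (by rw [map_mul, map_mul]; exact hVcomm _ ha _ hb)
    · intro u hu hu1 y hy
      refine hcent _ hu (fun h => hu1 (hinj (h.trans (map_one _).symm))) _ ?_
      rw [← map_mul, hy, map_mul]
  refine core hi hTI P (k := 2) (by norm_num) ?_ hkM ?_ ?_
  · intro θ h
    have h1 := h.trans (charDegree_dvd θ)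
    rw [hL] at h1
    norm_num at h1
  · refine ⟨ConjClasses.mk ⟨⟨x, (hmem x).2 (le_normalizer hxV)⟩, x.2⟩, ?_⟩
    rw [invC_mk]
    rintro ⟨g, hg, hgx⟩
    have hgL : (g : G) ∉ L := hg
    have hgx' : (g : G) * x = x * g := congrArg Subtype.val hgx
    obtain ⟨h, hhL, hhp, hhx⟩ := exists_pElt hi hgL hgx'
    have hhP : h ∈ P := hTI.mem_of_comm hxP hxG1 hhx.symm hhp
    apply hhL
    apply hzst
    refine ⟨hhP, ?_⟩
    show h ∈ centralizer (((P : Subgroup G) ⊓ L : Subgroup G) : Set G)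
    rw [hPL, mem_centralizer_iff]
    rintro _ ⟨v, hv, rfl⟩
    have hv' : v ∈ V := hv
    rw [hVx] at hv'
    obtain ⟨i, rfl⟩ := mem_zpowers_iff.1 hv'
    show ((x ^ i : L) : G) * h = h * ((x ^ i : L) : G)
    rw [coe_zpow]
    exact ((show Commute (x : G) h from hhx.symm).zpow_left i).eq
  · exact h0

/-- conjugate Sylow subgroups have isomorphic normalizers -/
theorem classes_normalizer (P Q : Sylow 5 G) : Nat.card (ConjClasses (normalizer ((P : Subgroup G) : Set G))) =
    Nat.card (ConjClasses (normalizer ((Q : Subgroup G) : Set G))) := by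
  have hp5 : Fact (Nat.Prime 5) := ⟨Nat.prime_five⟩
  obtain ⟨g, rfl⟩ := MulAction.exists_smul_eq G P Q
  have h : ∀ y : G, y ∈ normalizer ((P : Subgroup G) : Set G) ↔
      MulAut.conj g y ∈ normalizer (((g • P : Sylow 5 G) : Subgroup G) : Set G) := by
    intro y
    have h1 : ∀ (P : Sylow 5 G) (y : G), y ∈ normalizer ((P : Subgroup G) : Set G) ↔ y • P = P :=
      fun P y => Sylow.smul_eq_iff_mem_normalizer.symm
    rw [h1, h1, smul_smul, MulAut.conj_apply, inv_mul_cancel_right, mul_smul]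
    exact (smul_left_cancel_iff g).symm
  refine classes_congr
    { toFun := fun y => ⟨MulAut.conj g y, (h y).1 y.2⟩
      invFun := fun y => ⟨(MulAut.conj g)⁻¹ y, (h _).2 (by
        rw [MulAut.apply_inv_self]
        exact y.2)⟩
      left_inv := fun y => Subtype.ext (MulAut.inv_apply_self G _ _)
      right_inv := fun y => Subtype.ext (MulAut.apply_inv_self G _ _)
      map_mul' := fun a b => Subtype.ext (map_mul _ _ _) }

/-- **The row `Sz(32):5`**, from the consequence `hzst` of the `Z*`-theorem -/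
theorem row_of_zst {F : Type v} [Field F] [Fintype F] (hF : Fintype.card F = 32) (e : L ≃* Sz F 2)
    (hi : L.index = 5) (hTI : IsTI 5 G) (hzst : ∀ P : Sylow 5 G,
      (P : Subgroup G) ⊓ centralizer (((P : Subgroup G) ⊓ L : Subgroup G) : Set G) ≤ L) (P : Sylow 5 G) :
    Nat.card (ConjClasses G) = Nat.card (ConjClasses (normalizer ((P : Subgroup G) : Set G))) +
      Nat.card {χ : IrrCharacter G // (charDegree (χ : G → ℂ)).factorization 5 = (Nat.card G).factorization 5} := by
  have hp5 : Fact (Nat.Prime 5) := ⟨Nat.prime_five⟩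
  have hL : Nat.card L = 1024 * 1025 * 31 := by rw [Nat.card_congr e.toEquiv, sz_card hF]
  obtain ⟨V, x, hVx, hV, hcent, hN⟩ := exists_torus hF e
  have h1 : IsPGroup 5 (V.map L.subtype) := by
    refine IsPGroup.of_card (n := 2) ?_
    rw [Nat.card_congr (V.equivMapOfInjective L.subtype L.subtype_injective).toEquiv.symm, hV]
    norm_num
  obtain ⟨Q, hQ⟩ := h1.exists_le_sylow
  have h0 : Nat.card {θ : IrrCharacter L // ¬ 25 ∣ charDegree (θ : L → ℂ)} = 10 := by
    rw [card_irr_congr e (fun d => ¬ 25 ∣ d), sz_nondz hF]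
  rw [classes_normalizer P Q, row_aux L hi hL hTI Q V x hVx hV hcent hN hQ (hzst Q) h0, card_eq L hi hL]
  congr 1
  refine Nat.card_congr (Equiv.subtypeEquivRight fun χ => ?_)
  refine (fact_eq (H686.CharKit.charDegree_pos χ).ne' ?_).symm
  rw [← card_eq L hi hL]
  exact charDegree_dvd χ

end

end Cfsg.Agent.H261.TI
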